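import Mathlib

/-!
Explicit data for the subgroups of order three of the orthogonal group in dimension seven over three elements.
-/

set_option autoImplicit false

namespace Cfsg.Agent.O73Three

/-- The field with three elements. -/
abbrev F3 := ZMod 3

/-- Square matrices in coordinates. -/
abbrev M7 := Matrix (Fin 7) (Fin 7) F3

/-- The Gram matrix of the polar form. -/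
def gramB : M7 := !![2, 0, 0, 0, 0, 0, 0; 0, 0, 0, 0, 1, 0, 0; 0, 0, 0, 0, 0, 1, 0; 0, 0, 0, 0, 0, 0, 1; 0, 1, 0, 0, 0, 0, 0; 0, 0, 1, 0, 0, 0, 0; 0, 0, 0, 1, 0, 0, 0]

/-- Gram matrices of the six normal forms. -/
def gramK : Fin 6 → M7 := ![
  !![0, 2, 1, 0, 0, 0, 0; 2, 2, 0, 0, 0, 0, 0; 1, 0, 0, 0, 0, 0, 0; 0, 0, 0, 0, 2, 1, 0; 0, 0, 0, 2, 2, 0, 0; 0, 0, 0, 1, 0, 0, 0; 0, 0, 0, 0, 0, 0, 1],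
  !![0, 2, 1, 0, 0, 0, 0; 2, 2, 0, 0, 0, 0, 0; 1, 0, 0, 0, 0, 0, 0; 0, 0, 0, 0, 1, 2, 0; 0, 0, 0, 1, 1, 0, 0; 0, 0, 0, 2, 0, 0, 0; 0, 0, 0, 0, 0, 0, 2],
  !![0, 2, 1, 0, 0, 0, 0; 2, 2, 0, 0, 0, 0, 0; 1, 0, 0, 0, 0, 0, 0; 0, 0, 0, 0, 0, 0, 2; 0, 0, 0, 0, 0, 1, 0; 0, 0, 0, 0, 1, 0, 0; 0, 0, 0, 2, 0, 0, 0],
  !![0, 2, 1, 0, 0, 0, 0; 2, 2, 0, 0, 0, 0, 0; 1, 0, 0, 0, 0, 0, 0; 0, 0, 0, 1, 0, 0, 0; 0, 0, 0, 0, 1, 0, 0; 0, 0, 0, 0, 0, 1, 0; 0, 0, 0, 0, 0, 0, 1],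
  !![0, 1, 2, 0, 0, 0, 0; 1, 1, 0, 0, 0, 0, 0; 2, 0, 0, 0, 0, 0, 0; 0, 0, 0, 1, 0, 0, 0; 0, 0, 0, 0, 1, 0, 0; 0, 0, 0, 0, 0, 1, 0; 0, 0, 0, 0, 0, 0, 2],
  !![0, 0, 0, 2, 0, 0, 0; 0, 0, 1, 0, 0, 0, 0; 0, 1, 0, 0, 0, 0, 0; 2, 0, 0, 0, 0, 0, 0; 0, 0, 0, 0, 1, 0, 0; 0, 0, 0, 0, 0, 1, 0; 0, 0, 0, 0, 0, 0, 1]]

/-- Nilpotent parts of the six normal forms. -/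
def nilK : Fin 6 → M7 := ![
  !![0, 0, 0, 0, 0, 0, 0; 1, 0, 0, 0, 0, 0, 0; 0, 1, 0, 0, 0, 0, 0; 0, 0, 0, 0, 0, 0, 0; 0, 0, 0, 1, 0, 0, 0; 0, 0, 0, 0, 1, 0, 0; 0, 0, 0, 0, 0, 0, 0],
  !![0, 0, 0, 0, 0, 0, 0; 1, 0, 0, 0, 0, 0, 0; 0, 1, 0, 0, 0, 0, 0; 0, 0, 0, 0, 0, 0, 0; 0, 0, 0, 1, 0, 0, 0; 0, 0, 0, 0, 1, 0, 0; 0, 0, 0, 0, 0, 0, 0],
  !![0, 0, 0, 0, 0, 0, 0; 1, 0, 0, 0, 0, 0, 0; 0, 1, 0, 0, 0, 0, 0; 0, 0, 0, 0, 0, 0, 0; 0, 0, 0, 0, 0, 0, 0; 0, 0, 0, 1, 0, 0, 0; 0, 0, 0, 0, 1, 0, 0],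
  !![0, 0, 0, 0, 0, 0, 0; 1, 0, 0, 0, 0, 0, 0; 0, 1, 0, 0, 0, 0, 0; 0, 0, 0, 0, 0, 0, 0; 0, 0, 0, 0, 0, 0, 0; 0, 0, 0, 0, 0, 0, 0; 0, 0, 0, 0, 0, 0, 0],
  !![0, 0, 0, 0, 0, 0, 0; 1, 0, 0, 0, 0, 0, 0; 0, 1, 0, 0, 0, 0, 0; 0, 0, 0, 0, 0, 0, 0; 0, 0, 0, 0, 0, 0, 0; 0, 0, 0, 0, 0, 0, 0; 0, 0, 0, 0, 0, 0, 0],
  !![0, 0, 0, 0, 0, 0, 0; 0, 0, 0, 0, 0, 0, 0; 1, 0, 0, 0, 0, 0, 0; 0, 1, 0, 0, 0, 0, 0; 0, 0, 0, 0, 0, 0, 0; 0, 0, 0, 0, 0, 0, 0; 0, 0, 0, 0, 0, 0, 0]]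

/-- Frames realising the normal forms. -/
def frameK : Fin 6 → M7 := ![
  !![0, 0, 2, 0, 0, 2, 1; 2, 0, 0, 0, 1, 0, 1; 1, 1, 1, 0, 1, 1, 0; 1, 1, 1, 2, 2, 1, 1; 2, 1, 0, 1, 1, 1, 0; 2, 0, 1, 1, 0, 2, 0; 0, 1, 1, 0, 0, 0, 1],
  !![2, 1, 1, 1, 2, 2, 1; 0, 2, 1, 1, 0, 0, 0; 2, 2, 1, 1, 1, 2, 0; 1, 1, 1, 1, 0, 1, 0; 0, 2, 0, 2, 0, 2, 1; 1, 2, 0, 1, 1, 1, 2; 0, 1, 2, 2, 1, 0, 1],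
  !![1, 1, 0, 2, 1, 1, 2; 2, 1, 2, 1, 2, 2, 2; 0, 0, 1, 2, 2, 0, 2; 1, 1, 1, 0, 2, 2, 0; 1, 2, 2, 0, 0, 1, 1; 0, 1, 1, 1, 2, 1, 0; 0, 1, 1, 1, 2, 0, 1],
  !![2, 0, 1, 1, 2, 0, 0; 0, 0, 0, 2, 2, 0, 2; 0, 2, 1, 0, 2, 1, 1; 2, 1, 2, 1, 1, 1, 1; 0, 2, 1, 1, 0, 2, 1; 1, 0, 2, 1, 1, 0, 1; 1, 1, 0, 2, 2, 2, 2],
  !![1, 2, 1, 1, 0, 2, 1; 2, 1, 1, 0, 0, 1, 2; 1, 0, 0, 2, 1, 1, 0; 1, 2, 1, 2, 1, 2, 1; 1, 0, 1, 1, 2, 0, 2; 1, 2, 0, 1, 2, 0, 0; 2, 2, 1, 1, 0, 2, 2],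
  !![0, 1, 1, 1, 2, 2, 1; 1, 2, 0, 1, 2, 2, 0; 2, 2, 0, 2, 2, 0, 2; 1, 1, 2, 2, 2, 2, 2; 2, 1, 0, 0, 1, 2, 1; 1, 0, 2, 2, 0, 1, 0; 2, 0, 1, 2, 1, 0, 2]]

/-- Inverses of the frames. -/
def frameInvK : Fin 6 → M7 := ![
  !![1, 0, 1, 1, 0, 1, 1; 2, 2, 2, 1, 0, 1, 1; 2, 1, 1, 1, 2, 2, 2; 1, 1, 2, 0, 0, 1, 1; 2, 1, 1, 0, 2, 1, 0; 2, 2, 2, 0, 2, 1, 2; 2, 0, 0, 1, 1, 0, 1],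
  !![2, 0, 0, 2, 1, 1, 1; 2, 1, 1, 0, 0, 0, 1; 0, 1, 2, 0, 0, 2, 2; 2, 1, 2, 0, 0, 1, 2; 2, 2, 2, 1, 0, 0, 1; 0, 0, 1, 2, 2, 2, 0; 1, 2, 1, 2, 0, 0, 0],
  !![0, 2, 1, 1, 2, 1, 1; 1, 2, 1, 1, 0, 2, 1; 0, 0, 1, 1, 2, 2, 2; 2, 2, 0, 2, 1, 1, 0; 2, 1, 1, 0, 2, 0, 2; 2, 0, 2, 2, 2, 2, 2; 2, 0, 2, 2, 2, 1, 0],
  !![2, 1, 2, 0, 0, 1, 2; 1, 0, 1, 2, 0, 0, 0; 2, 0, 2, 0, 0, 0, 2; 2, 1, 1, 2, 2, 0, 1; 1, 0, 1, 2, 2, 2, 1; 0, 2, 0, 2, 0, 1, 1; 0, 1, 1, 2, 2, 1, 1],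
  !![1, 2, 0, 2, 2, 0, 2; 0, 1, 2, 0, 2, 0, 0; 1, 0, 1, 1, 0, 2, 2; 2, 1, 1, 1, 0, 2, 2; 0, 2, 2, 0, 0, 1, 1; 1, 0, 0, 2, 1, 1, 2; 1, 1, 0, 1, 1, 0, 2],
  !![1, 0, 1, 1, 2, 1, 1; 2, 0, 2, 1, 0, 0, 2; 2, 1, 0, 0, 2, 2, 1; 0, 1, 2, 1, 2, 1, 2; 1, 1, 0, 1, 2, 2, 2; 1, 2, 1, 0, 2, 0, 2; 2, 1, 0, 2, 0, 2, 2]]

/-- Inverses of the Gram matrices. -/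
def gramInvK : Fin 6 → M7 := ![
  !![0, 0, 1, 0, 0, 0, 0; 0, 2, 2, 0, 0, 0, 0; 1, 2, 2, 0, 0, 0, 0; 0, 0, 0, 0, 0, 1, 0; 0, 0, 0, 0, 2, 2, 0; 0, 0, 0, 1, 2, 2, 0; 0, 0, 0, 0, 0, 0, 1],
  !![0, 0, 1, 0, 0, 0, 0; 0, 2, 2, 0, 0, 0, 0; 1, 2, 2, 0, 0, 0, 0; 0, 0, 0, 0, 0, 2, 0; 0, 0, 0, 0, 1, 1, 0; 0, 0, 0, 2, 1, 1, 0; 0, 0, 0, 0, 0, 0, 2],
  !![0, 0, 1, 0, 0, 0, 0; 0, 2, 2, 0, 0, 0, 0; 1, 2, 2, 0, 0, 0, 0; 0, 0, 0, 0, 0, 0, 2; 0, 0, 0, 0, 0, 1, 0; 0, 0, 0, 0, 1, 0, 0; 0, 0, 0, 2, 0, 0, 0],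
  !![0, 0, 1, 0, 0, 0, 0; 0, 2, 2, 0, 0, 0, 0; 1, 2, 2, 0, 0, 0, 0; 0, 0, 0, 1, 0, 0, 0; 0, 0, 0, 0, 1, 0, 0; 0, 0, 0, 0, 0, 1, 0; 0, 0, 0, 0, 0, 0, 1],
  !![0, 0, 2, 0, 0, 0, 0; 0, 1, 1, 0, 0, 0, 0; 2, 1, 1, 0, 0, 0, 0; 0, 0, 0, 1, 0, 0, 0; 0, 0, 0, 0, 1, 0, 0; 0, 0, 0, 0, 0, 1, 0; 0, 0, 0, 0, 0, 0, 2],
  !![0, 0, 0, 2, 0, 0, 0; 0, 0, 1, 0, 0, 0, 0; 0, 1, 0, 0, 0, 0, 0; 2, 0, 0, 0, 0, 0, 0; 0, 0, 0, 0, 1, 0, 0; 0, 0, 0, 0, 0, 1, 0; 0, 0, 0, 0, 0, 0, 1]]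

/-- Words of reflections centralising the representatives. -/
def centWord : Fin 6 → List (Fin 7 → F3) := ![
  [![0, 2, 0, 2, 0, 0, 1], ![0, 0, 1, 0, 1, 1, 2], ![0, 0, 1, 0, 2, 2, 1]],
  [![1, 2, 1, 0, 0, 0, 1], ![1, 1, 0, 0, 0, 1, 0], ![1, 2, 0, 2, 1, 0, 2]],
  [],
  [![0, 1, 2, 2, 1, 2, 1]],
  [![1, 2, 0, 1, 2, 0, 2]],
  [![1, 1, 2, 1, 0, 1, 1]]]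

/-- A word for minus one. -/
def negWord : List (Fin 7 → F3) := [![0, 0, 0, 1, 0, 0, 1], ![0, 0, 0, 1, 0, 0, 2], ![0, 0, 1, 0, 0, 1, 0], ![0, 0, 1, 0, 0, 2, 0], ![0, 1, 0, 0, 1, 0, 0], ![0, 1, 0, 0, 2, 0, 0], ![1, 0, 0, 0, 0, 0, 0]]

/-- A word inverting the split representative. -/
def invWord : List (Fin 7 → F3) := [![1, 1, 1, 2, 0, 1, 0], ![0, 2, 2, 0, 0, 2, 1], ![0, 1, 2, 0, 1, 0, 0]]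

/-- A vector with value one. -/
def outVec : Fin 7 → F3 := ![0, 0, 0, 1, 0, 0, 1]

/-- A diagonalising frame. -/
def diagB : M7 := !![0, 0, 0, 0, 0, 0, 1; 0, 0, 0, 0, 1, 1, 0; 0, 0, 1, 1, 0, 0, 0; 1, 1, 0, 0, 0, 0, 0; 0, 0, 0, 0, 1, 2, 0; 0, 0, 1, 2, 0, 0, 0; 1, 2, 0, 0, 0, 0, 0]

/-- A Gram matrix of the other discriminant. -/
def badA11 : M7 := !![0, 2, 1, 0, 0, 0, 0; 2, 2, 0, 0, 0, 0, 0; 1, 0, 0, 0, 0, 0, 0; 0, 0, 0, 0, 2, 1, 0; 0, 0, 0, 2, 2, 0, 0; 0, 0, 0, 1, 0, 0, 0; 0, 0, 0, 0, 0, 0, 2]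

/-- Its diagonalising matrix. -/
def badTA11 : M7 := !![0, 0, 0, 0, 0, 1, 2; 0, 0, 0, 0, 1, 2, 1; 0, 0, 0, 0, 0, 0, 1; 0, 0, 1, 2, 0, 0, 0; 0, 1, 2, 1, 0, 0, 0; 0, 0, 0, 1, 0, 0, 0; 1, 0, 0, 0, 0, 0, 0]

/-- A Gram matrix of the other discriminant. -/
def badA12 : M7 := !![0, 2, 1, 0, 0, 0, 0; 2, 2, 0, 0, 0, 0, 0; 1, 0, 0, 0, 0, 0, 0; 0, 0, 0, 0, 1, 2, 0; 0, 0, 0, 1, 1, 0, 0; 0, 0, 0, 2, 0, 0, 0; 0, 0, 0, 0, 0, 0, 1]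

/-- Its diagonalising matrix. -/
def badTA12 : M7 := !![0, 0, 0, 0, 0, 1, 2; 0, 0, 0, 0, 1, 2, 1; 0, 0, 0, 0, 0, 0, 1; 0, 0, 1, 2, 0, 0, 0; 0, 1, 2, 1, 0, 0, 0; 0, 0, 0, 1, 0, 0, 0; 1, 0, 0, 0, 0, 0, 0]

/-- A Gram matrix of the other discriminant. -/
def badC2 : M7 := !![0, 1, 2, 0, 0, 0, 0; 1, 1, 0, 0, 0, 0, 0; 2, 0, 0, 0, 0, 0, 0; 0, 0, 0, 0, 0, 0, 2; 0, 0, 0, 0, 0, 1, 0; 0, 0, 0, 0, 1, 0, 0; 0, 0, 0, 2, 0, 0, 0]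

/-- Its diagonalising matrix. -/
def badTC2 : M7 := !![0, 0, 0, 0, 0, 1, 2; 0, 0, 0, 0, 1, 2, 1; 0, 0, 0, 0, 0, 0, 1; 0, 0, 1, 1, 0, 0, 0; 1, 1, 0, 0, 0, 0, 0; 1, 2, 0, 0, 0, 0, 0; 0, 0, 1, 2, 0, 0, 0]

/-- A Gram matrix of the other discriminant. -/
def badD1 : M7 := !![0, 2, 1, 0, 0, 0, 0; 2, 2, 0, 0, 0, 0, 0; 1, 0, 0, 0, 0, 0, 0; 0, 0, 0, 1, 0, 0, 0; 0, 0, 0, 0, 1, 0, 0; 0, 0, 0, 0, 0, 1, 0; 0, 0, 0, 0, 0, 0, 2]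

/-- Its diagonalising matrix. -/
def badTD1 : M7 := !![0, 0, 0, 0, 0, 1, 2; 0, 0, 0, 0, 1, 2, 1; 0, 0, 0, 0, 0, 0, 1; 0, 0, 0, 1, 0, 0, 0; 0, 0, 1, 0, 0, 0, 0; 0, 1, 0, 0, 0, 0, 0; 1, 0, 0, 0, 0, 0, 0]

/-- A Gram matrix of the other discriminant. -/
def badD2 : M7 := !![0, 1, 2, 0, 0, 0, 0; 1, 1, 0, 0, 0, 0, 0; 2, 0, 0, 0, 0, 0, 0; 0, 0, 0, 1, 0, 0, 0; 0, 0, 0, 0, 1, 0, 0; 0, 0, 0, 0, 0, 1, 0; 0, 0, 0, 0, 0, 0, 1]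

/-- Its diagonalising matrix. -/
def badTD2 : M7 := !![0, 0, 0, 0, 0, 1, 2; 0, 0, 0, 0, 1, 2, 1; 0, 0, 0, 0, 0, 0, 1; 0, 0, 0, 1, 0, 0, 0; 0, 0, 1, 0, 0, 0, 0; 0, 1, 0, 0, 0, 0, 0; 1, 0, 0, 0, 0, 0, 0]

/-- A Gram matrix of the other discriminant. -/
def badE1 : M7 := !![0, 0, 0, 2, 0, 0, 0; 0, 0, 1, 0, 0, 0, 0; 0, 1, 0, 0, 0, 0, 0; 2, 0, 0, 0, 0, 0, 0; 0, 0, 0, 0, 1, 0, 0; 0, 0, 0, 0, 0, 1, 0; 0, 0, 0, 0, 0, 0, 2]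

/-- Its diagonalising matrix. -/
def badTE1 : M7 := !![0, 0, 0, 0, 0, 1, 1; 0, 0, 0, 1, 1, 0, 0; 0, 0, 0, 1, 2, 0, 0; 0, 0, 0, 0, 0, 1, 2; 0, 0, 1, 0, 0, 0, 0; 0, 1, 0, 0, 0, 0, 0; 1, 0, 0, 0, 0, 0, 0]

end Cfsg.Agent.O73Three
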