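/-
The orthogonal group in dimension seven over three elements, in coordinates.
-/
import Cfsg.Agent.O73Three.Data
import Cfsg.Agent.Lib.Reflections.OddIndex
import Cfsg.Prelude.Def_Classical

set_option autoImplicit false

namespace Cfsg.Agent.O73Three

open Matrix QuadraticMap Reflections

/-- Coordinate vectors. -/
abbrev V7 := Fin 7 → F3

/-- The bilinear form. -/
def bil (u w : V7) : F3 := u ⬝ᵥ gramB *ᵥ w

/-- The quadratic form `x₀² + x₁x₄ + x₂x₅ + x₃x₆`. -/
def Q7 : QuadraticForm F3 V7 :=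
  linMulLin (LinearMap.proj 0) (LinearMap.proj 0) + linMulLin (LinearMap.proj 1) (LinearMap.proj 4) +
    linMulLin (LinearMap.proj 2) (LinearMap.proj 5) + linMulLin (LinearMap.proj 3) (LinearMap.proj 6)

theorem Q7_apply (v : V7) : Q7 v = v 0 * v 0 + v 1 * v 4 + v 2 * v 5 + v 3 * v 6 := rfl

theorem bil_eq (u w : V7) : bil u w = 2 * (u 0 * w 0) + (u 1 * w 4 + u 4 * w 1) + (u 2 * w 5 + u 5 * w 2) +
    (u 3 * w 6 + u 6 * w 3) := by
  simp [bil, gramB, Matrix.mulVec, dotProduct, Fin.sum_univ_seven]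
  ring

theorem polar_Q7 (u w : V7) : polar (⇑Q7) u w = bil u w := by
  simp only [polar, Q7_apply, bil_eq, Pi.add_apply]
  ring

theorem two_ne : (2 : F3) ≠ 0 := by decide

theorem not_square_two : ¬ IsSquare (2 : F3) := by
  rintro ⟨r, hr⟩
  revert r
  decide

theorem three_eq : (3 : F3) = 0 := rfl

theorem Q7_eq_bil (v : V7) : Q7 v = 2 * bil v v := by
  rw [← polar_Q7, polar_self']
  linear_combination -(Q7 v) * three_eq

theorem gramB_sq : ∃ H : M7, gramB * H = 1 ∧ H * gramB = 1 :=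
  ⟨!![2, 0, 0, 0, 0, 0, 0; 0, 0, 0, 0, 1, 0, 0; 0, 0, 0, 0, 0, 1, 0; 0, 0, 0, 0, 0, 0, 1;
      0, 1, 0, 0, 0, 0, 0; 0, 0, 1, 0, 0, 0, 0; 0, 0, 0, 1, 0, 0, 0],
    by decide +kernel, by decide +kernel⟩

theorem bil_comm (u w : V7) : bil u w = bil w u := by rw [bil_eq, bil_eq]; ring

theorem bil_nondeg (u : V7) (h : ∀ w, bil u w = 0) : u = 0 := by
  have e : gramB *ᵥ u = 0 := funext fun i => by
    have := h (Pi.single i 1)
    rw [bil_comm] at this
    simpa [bil] using this
  obtain ⟨H, _, hH⟩ := gramB_sq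
  have := congrArg (H *ᵥ ·) e
  simpa [Matrix.mulVec_mulVec, hH] using this

theorem polar_nondeg : Q7.polarBilin.Nondegenerate := by
  refine ⟨fun u hu => bil_nondeg u fun w => ?_, fun u hu => bil_nondeg u fun w => ?_⟩
  · rw [← polar_Q7]; exact hu w
  · rw [bil_comm, ← polar_Q7]; exact hu w

/-- The isometry group. -/
abbrev G7 : Subgroup (Matrix.GeneralLinearGroup (Fin 7) F3) := Cfsg.isometryGroup F3 ⇑Q7

theorem bil_mulVec (A : M7) (u w : V7) : bil (A *ᵥ u) (A *ᵥ w) = u ⬝ᵥ (Aᵀ * gramB * A) *ᵥ w := by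
  rw [bil, ← Matrix.mulVec_mulVec, ← Matrix.mulVec_mulVec, Matrix.dotProduct_mulVec u Aᵀ,
    Matrix.vecMul_transpose]

theorem mat_preserves (g : G7) : (mat g)ᵀ * gramB * mat g = gramB := by
  refine Matrix.ext fun i j => ?_
  have h := act_polar g (Pi.single i 1) (Pi.single j 1)
  rw [polar_Q7, polar_Q7, act_def, act_def, bil_mulVec] at h
  simpa [bil] using h

theorem det_ne_zero_of_preserves {M : M7} (h : Mᵀ * gramB * M = gramB) : M.det ≠ 0 := by
  intro h0
  obtain ⟨H, hH, _⟩ := gramB_sq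
  have h1 := congrArg (fun A => (A * H).det) h
  simp only [Matrix.det_mul, hH, Matrix.det_one] at h1
  rw [h0, mul_zero, zero_mul] at h1
  exact zero_ne_one h1

/-- A matrix preserving the form, as an isometry. -/
noncomputable def ofMat (M : M7) (h : Mᵀ * gramB * M = gramB) : G7 :=
  mkIsom Q7 M (det_ne_zero_of_preserves h) fun x => by
    rw [Q7_eq_bil, Q7_eq_bil, bil_mulVec, h]; rfl

@[simp] theorem mat_ofMat (M : M7) (h : Mᵀ * gramB * M = gramB) : mat (ofMat M h) = M := rfl

theorem mat_mul' (g h : G7) : mat (g * h) = mat g * mat h := rfl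
theorem mat_one' : mat (1 : G7) = 1 := rfl

theorem mat_pow' (g : G7) (n : ℕ) : mat (g ^ n) = mat g ^ n := by
  induction n with
  | zero => rw [pow_zero, pow_zero, mat_one']
  | succ n ih => rw [pow_succ, pow_succ, mat_mul', ih]

/-- The matrix of a reflection. -/
def reflM (v : V7) : M7 := 1 - (2 * bil v v) • Matrix.vecMulVec v (gramB *ᵥ v)

theorem mat_refl' {v : V7} (hv : Q7 v ≠ 0) : mat (refl Q7 v) = reflM v := by
  refine Matrix.ext_iff_mulVec.mpr fun x => ?_
  rw [← act_def, act_refl hv, polar_Q7, reflM, Matrix.sub_mulVec, Matrix.one_mulVec, Matrix.smul_mulVec,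
    Matrix.vecMulVec_mulVec]
  have hinv : (Q7 v)⁻¹ = 2 * bil v v := by
    rw [← Q7_eq_bil]
    revert hv
    generalize Q7 v = a
    revert a
    decide +kernel
  rw [hinv, show (gramB *ᵥ v) ⬝ᵥ x = bil v x by rw [bil_comm, bil, dotProduct_comm]]
  simp [mul_smul]

/-- The isometry of a word of reflections. -/
noncomputable def wordIso (w : List V7) : G7 := (w.map (refl Q7)).prod

/-- The matrix of a word of reflections. -/
def wordM (w : List V7) : M7 := (w.map reflM).prod

theorem mat_wordIso : ∀ {w : List V7}, (∀ v ∈ w, bil v v ≠ 0) → mat (wordIso w) = wordM w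
  | [], _ => rfl
  | v :: w, h => by
    have hv : Q7 v ≠ 0 := by rw [Q7_eq_bil]; exact mul_ne_zero two_ne (h v List.mem_cons_self)
    show mat (refl Q7 v * wordIso w) = reflM v * wordM w
    rw [mat_mul', mat_refl' hv, mat_wordIso fun u hu => h u (List.mem_cons_of_mem _ hu)]

/-- The spinor character of index `1`. -/
noncomputable abbrev psi : G7 →* ℤˣ := theta Q7 1

/-- The spinor character of index `2`. -/
noncomputable abbrev psi' : G7 →* ℤˣ := theta Q7 2

theorem psi_refl {v : V7} (hv : bil v v ≠ 0) :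
    psi (refl Q7 v) = (if 2 * bil v v = 1 then -1 else 1) ∧
      psi' (refl Q7 v) = (if 2 * bil v v = 1 then 1 else -1) := by
  have hQ := Q7_eq_bil v
  by_cases h : 2 * bil v v = 1
  · rw [if_pos h, if_pos h]
    have hq : Q7 v = 1 := hQ.trans h
    have e1 := theta_one_a (Q := Q7) two_ne hq
    have e2 := theta_eps_a (Q := Q7) two_ne not_square_two hq
    exact ⟨e1, e2⟩
  · have h2 : 2 * bil v v = 2 := by
      revert h hv; generalize bil v v = a; revert a; decide
    rw [if_neg h, if_neg h]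
    exact ⟨theta_one_b two_ne not_square_two (hQ.trans h2), theta_eps_b two_ne not_square_two (hQ.trans h2)⟩

/-- The sign pair of a vector. -/
def vecSign (v : V7) : ℤˣ × ℤˣ := if 2 * bil v v = 1 then (-1, 1) else (1, -1)

/-- The spinor signs of a word. -/
def wordSign (w : List V7) : ℤˣ × ℤˣ := (w.map vecSign).prod

theorem psi_wordIso (w : List V7) (h : ∀ v ∈ w, bil v v ≠ 0) :
    (psi (wordIso w), psi' (wordIso w)) = wordSign w := by
  rw [wordIso, wordSign, ← MonoidHom.prod_apply, map_list_prod, List.map_map]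
  refine congrArg List.prod (List.map_congr_left fun v hv => ?_)
  obtain ⟨h1, h2⟩ := psi_refl (h v hv)
  rw [Function.comp_apply, MonoidHom.prod_apply, h1, h2, vecSign]
  by_cases hc : 2 * bil v v = 1
  · simp only [if_pos hc]
  · simp only [if_neg hc]

theorem mem_omega_iff (g : G7) : g ∈ Cfsg.Omega F3 ⇑Q7 ↔ psi g = 1 ∧ psi' g = 1 := by
  rw [omega_eq_ker two_ne polar_nondeg (by simp) not_square_two, MonoidHom.mem_ker, thetaPair,
    MonoidHom.prod_apply, Prod.ext_iff]
  rfl

theorem sign_of_pow_three {f : G7 →* ℤˣ} {g : G7} {n : ℕ} (h : g ^ 3 ^ n = 1) : f g = 1 := by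
  have h1 : (f g) ^ 3 ^ n = 1 := by rw [← map_pow, h, map_one]
  rcases Int.units_eq_one_or (f g) with e | e
  · exact e
  · rw [e, Odd.neg_one_pow (Odd.pow (by decide))] at h1
    exact absurd h1 (by decide)

end Cfsg.Agent.O73Three
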