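/-
Normal forms of isometries of order three in dimension seven over three elements.
-/
import Cfsg.Agent.O73Three.Basic

set_option autoImplicit false

namespace Cfsg.Agent.O73Three

open Matrix

/-! ### Bilinearity -/

theorem bil_add_left (u v w : V7) : bil (u + v) w = bil u w + bil v w := add_dotProduct _ _ _
theorem bil_add_right (u v w : V7) : bil u (v + w) = bil u v + bil u w := by
  simp [bil, Matrix.mulVec_add, dotProduct_add]
theorem bil_smul_left (c : F3) (u w : V7) : bil (c • u) w = c * bil u w := by simp [bil]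
theorem bil_smul_right (c : F3) (u w : V7) : bil u (c • w) = c * bil u w := by
  simp [bil, Matrix.mulVec_smul, dotProduct_smul]
theorem bil_zero_left (w : V7) : bil 0 w = 0 := by simp [bil]
theorem bil_zero_right (w : V7) : bil w 0 = 0 := by simp [bil]
theorem bil_sum_right {κ : Type*} (u : V7) (s : Finset κ) (f : κ → V7) :
    bil u (∑ j ∈ s, f j) = ∑ j ∈ s, bil u (f j) := by
  classical
  induction s using Finset.induction_on with
  | empty => simp [bil_zero_right]
  | insert a s ha ih => rw [Finset.sum_insert ha, Finset.sum_insert ha, bil_add_right, ih]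
theorem bil_sub_right (u v w : V7) : bil u (v - w) = bil u v - bil u w := by
  simp [bil, Matrix.mulVec_sub, dotProduct_sub]

/-! ### Frames -/

/-- The Gram matrix of a family. -/
def gram {κ : Type} (e : κ → V7) : Matrix κ κ F3 := Matrix.of fun i j => bil (e i) (e j)

/-- A family with invertible Gram matrix. -/
def IsFrame {κ : Type} [Fintype κ] [DecidableEq κ] (e : κ → V7) : Prop := ∃ H, gram e * H = 1

/-- Orthogonal to a family. -/
def Perp {κ : Type} (e : κ → V7) (y : V7) : Prop := ∀ i, bil (e i) y = 0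

section Frames

variable {κ μ : Type} [Fintype κ] [DecidableEq κ] [Fintype μ] [DecidableEq μ] {e : κ → V7} {f : μ → V7}

theorem bil_combination (a : κ → F3) (i : κ) : bil (e i) (∑ j, a j • e j) = (gram e *ᵥ a) i := by
  rw [bil_sum_right]
  simp [Matrix.mulVec, dotProduct, gram, bil_smul_right, mul_comm]

theorem IsFrame.exists_split (he : IsFrame e) (w : V7) : ∃ a : κ → F3, Perp e (w - ∑ j, a j • e j) := by
  obtain ⟨H, hH⟩ := he
  refine ⟨H *ᵥ fun i => bil (e i) w, fun i => ?_⟩
  rw [bil_sub_right, bil_combination, Matrix.mulVec_mulVec, hH, Matrix.one_mulVec, sub_self]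

theorem IsFrame.nondeg (he : IsFrame e) {y : V7} (hy : Perp e y) (h : ∀ z, Perp e z → bil y z = 0) : y = 0 := by
  refine bil_nondeg y fun w => ?_
  obtain ⟨a, ha⟩ := he.exists_split w
  have := h _ ha
  rw [bil_sub_right, bil_sum_right] at this
  rw [sub_eq_zero.mp this]
  exact Finset.sum_eq_zero fun j _ => by rw [bil_smul_right, bil_comm, hy j, mul_zero]

/-- The coordinates against a family. -/
def pairing (e : κ → V7) : V7 →ₗ[F3] (κ → F3) where
  toFun y i := bil (e i) y
  map_add' y z := funext fun i => bil_add_right _ _ _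
  map_smul' c y := funext fun i => bil_smul_right _ _ _

theorem IsFrame.card_le (he : IsFrame e) : Fintype.card κ ≤ 7 := by
  have hs : Function.Surjective (pairing e) := by
    intro c
    obtain ⟨H, hH⟩ := he
    refine ⟨∑ j, (H *ᵥ c) j • e j, funext fun i => ?_⟩
    show bil (e i) _ = c i
    rw [bil_combination, Matrix.mulVec_mulVec, hH, Matrix.one_mulVec]
  have := LinearMap.finrank_range_le (pairing e)
  rw [LinearMap.range_eq_top.mpr hs, finrank_top] at this
  simpa using this

theorem exists_perp (e : κ → V7) (h : Fintype.card κ < 7) : ∃ y, y ≠ 0 ∧ Perp e y := by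
  have hk : LinearMap.ker (pairing e) ≠ ⊥ := LinearMap.ker_ne_bot_of_finrank_lt (by simpa using h)
  obtain ⟨y, hy, hy0⟩ := Submodule.exists_mem_ne_zero_of_ne_bot hk
  exact ⟨y, hy0, fun i => congrFun (LinearMap.mem_ker.mp hy) i⟩

theorem IsFrame.sum (he : IsFrame e) (hf : IsFrame f) (h : ∀ j, Perp e (f j)) : IsFrame (Sum.elim e f) := by
  obtain ⟨H, hH⟩ := he
  obtain ⟨K, hK⟩ := hf
  refine ⟨Matrix.fromBlocks H 0 0 K, ?_⟩
  have hg : gram (Sum.elim e f) = Matrix.fromBlocks (gram e) 0 0 (gram f) := by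
    refine Matrix.ext fun a b => ?_
    rcases a with a | a <;> rcases b with b | b
    · rfl
    · exact h b a
    · exact (bil_comm _ _).trans (h a b)
    · rfl
  rw [hg, Matrix.fromBlocks_multiply, hH, hK]
  simp [Matrix.fromBlocks_one]

theorem isFrame_single {z : V7} (hz : bil z z ≠ 0) : IsFrame (fun _ : Unit => z) :=
  ⟨Matrix.of fun _ _ => (bil z z)⁻¹, Matrix.ext fun i j => by simp [Matrix.mul_apply, gram, hz]⟩

theorem IsFrame.exists_value (he : IsFrame e) (h : Fintype.card κ < 7) : ∃ z, Perp e z ∧ bil z z ≠ 0 := by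
  obtain ⟨y, hy0, hy⟩ := exists_perp e h
  by_contra hc
  push_neg at hc
  refine hy0 (he.nondeg hy fun z hz => ?_)
  have h1 := hc (y + z) fun i => by rw [bil_add_right, hy i, hz i, add_zero]
  rw [bil_add_left, bil_add_right, bil_add_right, hc y hy, hc z hz, bil_comm z y] at h1
  exact (mul_eq_zero.mp (show (2 : F3) * bil y z = 0 by linear_combination h1)).resolve_left two_ne

theorem f3_cases {a : F3} (h : a ≠ 0) : a = 1 ∨ a = 2 := by revert h; revert a; decide

theorem IsFrame.exists_one (he : IsFrame e) (h : Fintype.card κ + 2 ≤ 7) : ∃ z, Perp e z ∧ bil z z = 1 := by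
  obtain ⟨z, hz, hz0⟩ := he.exists_value (by omega)
  rcases f3_cases hz0 with h1 | h1
  · exact ⟨z, hz, h1⟩
  obtain ⟨y, hy, hy0⟩ := (he.sum (isFrame_single hz0) fun _ => hz).exists_value
    (by rw [Fintype.card_sum, Fintype.card_unit]; omega)
  rcases f3_cases hy0 with h2 | h2
  · exact ⟨y, fun i => hy (Sum.inl i), h2⟩
  refine ⟨z + y, fun i => ?_, ?_⟩
  · rw [bil_add_right, hz i, show bil (e i) y = 0 from hy (Sum.inl i), add_zero]
  · have hzy : bil z y = 0 := hy (Sum.inr ())
    rw [bil_add_left, bil_add_right, bil_add_right, h1, h2, hzy, bil_comm y z, hzy]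
    rfl

end Frames

/-! ### A unipotent isometry -/

/-- The data of an isometry `1 + X` with `X³ = 0`. -/
structure Nil3 where
  X : M7
  isom : ∀ u w, bil (X *ᵥ u) w + bil u (X *ᵥ w) + bil (X *ᵥ u) (X *ᵥ w) = 0
  cube : ∀ u, X *ᵥ (X *ᵥ (X *ᵥ u)) = 0

namespace Nil3

variable (D : Nil3)

/-- Applying `X`. -/
def ap (u : V7) : V7 := D.X *ᵥ u

theorem ap_add (u w : V7) : D.ap (u + w) = D.ap u + D.ap w := Matrix.mulVec_add _ _ _
theorem ap_smul (c : F3) (u : V7) : D.ap (c • u) = c • D.ap u := Matrix.mulVec_smul _ _ _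
theorem ap_zero : D.ap 0 = 0 := Matrix.mulVec_zero _
theorem ap3 (u : V7) : D.ap (D.ap (D.ap u)) = 0 := D.cube u

theorem rel (u w : V7) : bil (D.ap u) w + bil u (D.ap w) + bil (D.ap u) (D.ap w) = 0 := D.isom u w

theorem bil_one_two (u w : V7) : bil (D.ap u) (D.ap (D.ap w)) = 0 := by
  have := D.rel u (D.ap (D.ap w))
  simpa [D.ap3, bil_zero_right] using this

theorem bil_two_two (u w : V7) : bil (D.ap (D.ap u)) (D.ap (D.ap w)) = 0 := D.bil_one_two _ _

theorem bil_one_one (u w : V7) : bil (D.ap u) (D.ap w) = - bil u (D.ap (D.ap w)) := by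
  have := D.rel u (D.ap w)
  rw [D.bil_one_two, add_zero] at this
  linear_combination this

/-- Moving `X` across the form. -/
theorem adjoint (u w : V7) : bil u (D.ap w) = - bil (D.ap u) w + bil (D.ap (D.ap u)) w := by
  have h1 := D.rel u w
  have h2 := D.bil_one_one w u
  rw [bil_comm (D.ap w) (D.ap u), bil_comm w (D.ap (D.ap u))] at h2
  linear_combination h1 - h2

/-- The symmetric form `B(u, X² w)`. -/
theorem beta_comm (u w : V7) : bil u (D.ap (D.ap w)) = bil w (D.ap (D.ap u)) := by
  have h1 := D.bil_one_one u w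
  have h2 := D.bil_one_one w u
  rw [bil_comm (D.ap w) (D.ap u)] at h2
  linear_combination h1 - h2

/-- The quadratic form `B(u, X² u)`. -/
def beta (u : V7) : F3 := bil u (D.ap (D.ap u))

/-- Families whose orthogonal is invariant. -/
def Closed {κ : Type} (e : κ → V7) : Prop := ∀ y, Perp e y → Perp e (D.ap y)

theorem closed_of {κ : Type} (e : κ → V7)
    (h : ∀ i, (∃ j, D.ap (e i) = e j) ∨ D.ap (e i) = 0) : D.Closed e := by
  intro y hy
  have h1 : ∀ i, bil (D.ap (e i)) y = 0 := fun i => by
    rcases h i with ⟨j, hj⟩ | hj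
    · rw [hj, hy j]
    · rw [hj, bil_zero_left]
  intro i
  rw [D.adjoint, h1 i, neg_zero, zero_add]
  rcases h i with ⟨j, hj⟩ | hj
  · rw [hj, h1 j]
  · rw [hj, D.ap_zero, bil_zero_left]

theorem closed_sum {κ μ : Type} {e : κ → V7} {f : μ → V7} (he : D.Closed e) (hf : D.Closed f) :
    D.Closed (Sum.elim e f) := fun y hy i => by
  rcases i with i | i
  · exact he y (fun i => hy (Sum.inl i)) i
  · exact hf y (fun i => hy (Sum.inr i)) i

/-- The family of a three-block. -/
def block (w : V7) : Fin 3 → V7 := ![w, D.ap w, D.ap (D.ap w)]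

theorem closed_block (w : V7) : D.Closed (D.block w) := D.closed_of _ fun i => by
  fin_cases i
  · exact Or.inl ⟨1, rfl⟩
  · exact Or.inl ⟨2, rfl⟩
  · exact Or.inr (D.ap3 w)

/-- The family of a pair of two-blocks. -/
def hyp (u w : V7) : Fin 4 → V7 := ![u, w, D.ap u, D.ap w]

theorem closed_hyp {u w : V7} (hu : D.ap (D.ap u) = 0) (hw : D.ap (D.ap w) = 0) : D.Closed (D.hyp u w) :=
  D.closed_of _ fun i => by
    fin_cases i
    · exact Or.inl ⟨2, rfl⟩
    · exact Or.inl ⟨3, rfl⟩
    · exact Or.inr hu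
    · exact Or.inr hw

section Perp

variable {κ : Type} [Fintype κ] [DecidableEq κ] {e : κ → V7} (hc : D.Closed e)

include hc in
theorem perp_block {w : V7} (hw : Perp e w) : ∀ j, Perp e (D.block w j) := fun j => by
  fin_cases j
  · exact hw
  · exact hc w hw
  · exact hc _ (hc w hw)

include hc in
theorem perp_hyp {u w : V7} (hu : Perp e u) (hw : Perp e w) : ∀ j, Perp e (D.hyp u w j) := fun j => by
  fin_cases j
  · exact hu
  · exact hw
  · exact hc u hu
  · exact hc w hw

include hc in
/-- A three-block may be normalised inside the orthogonal of a closed family. -/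
theorem exists_block {y : V7} (hy : Perp e y) (hb : D.beta y ≠ 0) :
    ∃ w, Perp e w ∧ D.beta w = D.beta y ∧ bil w w = 0 ∧ bil w (D.ap w) = 2 * D.beta y ∧
      bil (D.ap w) (D.ap w) = 2 * D.beta y ∧ IsFrame (D.block w) := by
  set c := D.beta y with hcdef
  have hcc : c * c = 1 := by revert hb; generalize c = a; revert a; decide
  set a := c * bil y y
  set w := y + a • D.ap (D.ap y) with hw
  have e1 : D.ap w = D.ap y := by rw [hw, D.ap_add, D.ap_smul, D.ap3, smul_zero, add_zero]
  have e2 : D.ap (D.ap w) = D.ap (D.ap y) := by rw [e1]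
  have hby : bil y (D.ap (D.ap y)) = c := hcdef.symm
  have hyb : bil (D.ap (D.ap y)) y = c := (bil_comm _ _).trans hby
  have hbeta : D.beta w = c := by
    rw [beta, e2, hw, bil_add_left, bil_smul_left, D.bil_two_two, hby, mul_zero, add_zero]
  have hww : bil w w = 0 := by
    rw [hw]
    simp only [bil_add_left, bil_add_right, bil_smul_left, bil_smul_right, D.bil_two_two, hby, hyb]
    linear_combination (2 * bil y y) * hcc + (bil y y) * three_eq
  have h11 : bil (D.ap w) (D.ap w) = 2 * c := by
    rw [D.bil_one_one, show bil w (D.ap (D.ap w)) = c from hbeta]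
    linear_combination -c * three_eq
  have h01 : bil w (D.ap w) = 2 * c := by
    have := D.rel w w
    rw [bil_comm (D.ap w) w, h11] at this
    linear_combination 2 * this - (bil w (D.ap w) + 2 * c) * three_eq
  refine ⟨w, fun i => ?_, hbeta, hww, h01, h11, c • !![0, 0, 1; 0, 2, 2; 1, 2, 2], ?_⟩
  · rw [hw, bil_add_right, bil_smul_right, hy i, hc _ (hc _ hy) i, mul_zero, add_zero]
  · have h02 : bil w (D.ap (D.ap w)) = c := hbeta
    have hg : gram (D.block w) = c • !![0, 2, 1; 2, 2, 0; 1, 0, 0] := by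
      refine Matrix.ext fun i j => ?_
      fin_cases i <;> fin_cases j <;>
        simp [gram, block, hww, h01, h11, h02, bil_comm (D.ap w) w, bil_comm (D.ap (D.ap w)) w,
          bil_comm (D.ap (D.ap w)) (D.ap w), D.bil_one_two, D.bil_two_two, mul_comm]
    rw [hg, Matrix.smul_mul, Matrix.mul_smul, smul_smul, hcc, one_smul]
    decide +kernel

include hc in
/-- A pair of two-blocks may be normalised inside the orthogonal of a closed family. -/
theorem exists_hyp (h2 : ∀ z, Perp e z → D.ap (D.ap z) = 0) {y z : V7} (hy : Perp e y) (hz : Perp e z)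
    (hb : bil (D.ap y) z ≠ 0) :
    ∃ u w, Perp e u ∧ Perp e w ∧ D.ap (D.ap u) = 0 ∧ D.ap (D.ap w) = 0 ∧ bil u u = 0 ∧ bil w w = 0 ∧
      bil u w = 0 ∧ bil u (D.ap u) = 0 ∧ bil w (D.ap w) = 0 ∧ bil (D.ap u) w = 1 ∧ bil u (D.ap w) = 2 ∧
      bil (D.ap u) (D.ap w) = 0 ∧ bil (D.ap u) (D.ap u) = 0 ∧ bil (D.ap w) (D.ap w) = 0 ∧
      IsFrame (D.hyp u w) := by
  set z' := (bil (D.ap y) z)⁻¹ • z with hz'
  have hz'p : Perp e z' := fun i => by rw [hz', bil_smul_right, hz i, mul_zero]
  have h1 : bil (D.ap y) z' = 1 := by rw [hz', bil_smul_right, inv_mul_cancel₀ hb]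
  have n11 : ∀ s t, Perp e t → bil (D.ap s) (D.ap t) = 0 := fun s t ht => by
    rw [D.bil_one_one, h2 t ht, bil_zero_right, neg_zero]
  have n01 : ∀ s, Perp e s → bil s (D.ap s) = 0 := fun s hs => by
    have := D.rel s s
    rw [bil_comm (D.ap s) s, n11 s s hs] at this
    exact (mul_eq_zero.mp (show (2 : F3) * bil s (D.ap s) = 0 by linear_combination this)).resolve_left two_ne
  have h2' : bil y (D.ap z') = 2 := by
    have := D.rel y z'
    rw [h1, n11 y z' hz'p] at this
    linear_combination this - three_eq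
  clear_value z'
  set u := y + (-bil y z') • D.ap y + (-bil y y) • D.ap z' with hu
  set w := z' + (bil z' z') • D.ap y with hw
  clear_value u w
  have eu : D.ap u = D.ap y := by
    rw [hu, D.ap_add, D.ap_add, D.ap_smul, D.ap_smul, h2 y hy, h2 z' hz'p, smul_zero, smul_zero, add_zero, add_zero]
  have ew : D.ap w = D.ap z' := by rw [hw, D.ap_add, D.ap_smul, h2 y hy, smul_zero, add_zero]
  have hup : Perp e u := fun i => by
    rw [hu, bil_add_right, bil_add_right, bil_smul_right, bil_smul_right, hy i, hc y hy i, hc z' hz'p i]; simp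
  have hwp : Perp e w := fun i => by
    rw [hw, bil_add_right, bil_smul_right, hz'p i, hc y hy i]; simp
  have c1 := n11 y y hy
  have c2 := n11 z' z' hz'p
  have c3 := n11 y z' hz'p
  have c4 := n11 z' y hy
  have c5 := n01 y hy
  have c6 := n01 z' hz'p
  have c5' : bil (D.ap y) y = 0 := (bil_comm _ _).trans c5
  have c6' : bil (D.ap z') z' = 0 := (bil_comm _ _).trans c6
  have h1' : bil z' (D.ap y) = 1 := (bil_comm _ _).trans h1
  have h2'' : bil (D.ap z') y = 2 := (bil_comm _ _).trans h2'
  have guu : bil u u = 0 := by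
    rw [hu]
    simp only [bil_add_left, bil_add_right, bil_smul_left, bil_smul_right, c1, c2, c3, c4, c5, c5', h2', h2'']
    linear_combination -(bil y y) * three_eq
  have gww : bil w w = 0 := by
    rw [hw]
    simp only [bil_add_left, bil_add_right, bil_smul_left, bil_smul_right, c1, h1, h1']
    linear_combination (bil z' z') * three_eq
  have guw : bil u w = 0 := by
    rw [hu, hw]
    simp only [bil_add_left, bil_add_right, bil_smul_left, bil_smul_right, c1, c4, c5, c6', h1]
    ring
  have guu1 : bil u (D.ap u) = 0 := n01 u hup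
  have gww1 : bil w (D.ap w) = 0 := n01 w hwp
  have g1 : bil (D.ap u) w = 1 := by
    rw [eu, hw, bil_add_right, bil_smul_right, h1, c1, mul_zero, add_zero]
  have g2 : bil u (D.ap w) = 2 := by
    rw [ew, hu]
    simp only [bil_add_left, bil_smul_left, c2, c3, h2']
    ring
  refine ⟨u, w, hup, hwp, h2 u hup, h2 w hwp, guu, gww, guw, guu1, gww1, g1, g2, n11 u w hwp, n11 u u hup,
    n11 w w hwp, !![0, 0, 0, 2; 0, 0, 1, 0; 0, 1, 0, 0; 2, 0, 0, 0], ?_⟩
  have hg : gram (D.hyp u w) = !![0, 0, 0, 2; 0, 0, 1, 0; 0, 1, 0, 0; 2, 0, 0, 0] := by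
    refine Matrix.ext fun i j => ?_
    fin_cases i <;> fin_cases j <;>
      simp [gram, hyp, guu, gww, guw, guu1, gww1, g1, g2, bil_comm w u, bil_comm (D.ap u) u, bil_comm (D.ap w) w,
        bil_comm w (D.ap u), bil_comm (D.ap w) u, n11 u w hwp, n11 u u hup, n11 w w hwp, n11 w u hup]
  rw [hg]
  decide +kernel

include hc in
/-- Without a three-block, `X²` kills the orthogonal. -/
theorem sq_zero (he : IsFrame e) (h : ∀ z, Perp e z → D.beta z = 0) {z : V7} (hz : Perp e z) :
    D.ap (D.ap z) = 0 := by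
  refine he.nondeg (hc _ (hc _ hz)) fun y hy => ?_
  have h1 := h (y + z) fun i => by rw [bil_add_right, hy i, hz i, add_zero]
  have e1 : bil y (D.ap (D.ap y)) = 0 := h y hy
  have e2 : bil z (D.ap (D.ap z)) = 0 := h z hz
  rw [beta, D.ap_add, D.ap_add, bil_add_left, bil_add_right, bil_add_right, e1, e2, D.beta_comm z y] at h1
  rw [bil_comm]
  exact (mul_eq_zero.mp (show (2 : F3) * bil y (D.ap (D.ap z)) = 0 by linear_combination h1)).resolve_left two_ne

include hc in
/-- Without blocks, `X` kills the orthogonal. -/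
theorem fixed (he : IsFrame e) (h : ∀ y z, Perp e y → Perp e z → bil (D.ap y) z = 0) {z : V7} (hz : Perp e z) :
    D.ap z = 0 :=
  he.nondeg (hc z hz) fun y hy => h z y hz hy

include hc in
theorem beta_zero_of_card (he : IsFrame e) (hn : 4 < Fintype.card κ) {z : V7} (hz : Perp e z) : D.beta z = 0 := by
  by_contra hb
  obtain ⟨w, hw, -, -, -, -, hf⟩ := D.exists_block hc hz hb
  have := (he.sum hf (D.perp_block hc hw)).card_le
  simp at this
  omega

include hc in
theorem fixed_of_card (he : IsFrame e) (hn : 3 < Fintype.card κ) (h : ∀ z, Perp e z → D.beta z = 0) {z : V7}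
    (hz : Perp e z) : D.ap z = 0 := by
  refine D.fixed hc he (fun y y' hy hy' => ?_) hz
  by_contra hb
  obtain ⟨u, w, hu, hw, h⟩ := D.exists_hyp hc (fun x hx => D.sq_zero hc he h hx) hy hy' hb
  have := (he.sum h.2.2.2.2.2.2.2.2.2.2.2.2 (D.perp_hyp hc hu hw)).card_le
  simp at this
  omega

end Perp

end Nil3

end Cfsg.Agent.O73Three
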