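/-
The six normal forms.
-/
import Cfsg.Agent.O73Three.Normal

set_option autoImplicit false

namespace Cfsg.Agent.O73Three

open Matrix

theorem gram_columns {κ : Type} (e : κ → V7) :
    (Matrix.of fun i j => e j i)ᵀ * gramB * (Matrix.of fun i j => e j i) = gram e := by
  refine Matrix.ext fun i j => ?_
  rw [Matrix.mul_assoc]
  rfl

theorem det_sq_cases : ∀ s s0 b : F3, s * b * s = 2 → s0 * b * s0 = 1 → False := by decide

/-- The discriminant excludes a Gram matrix. -/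
theorem gram_absurd (e : Fin 7 → V7) (G T : M7) (hG : gram e = G)
    (hd : Tᵀ * G * T = Matrix.diagonal (Tᵀ * G * T).diag) (hp : ∏ i, (Tᵀ * G * T) i i = 2) : False := by
  have h1 : ((Matrix.of fun i j => e j i) * T)ᵀ * gramB * ((Matrix.of fun i j => e j i) * T) = Tᵀ * G * T := by
    rw [← hG, ← gram_columns e, Matrix.transpose_mul]
    simp only [Matrix.mul_assoc]
  have h2 : diagBᵀ * gramB * diagB = Matrix.diagonal (diagBᵀ * gramB * diagB).diag := by decide +kernel
  have h3 : ∏ i, (diagBᵀ * gramB * diagB) i i = 1 := by decide +kernel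
  have e1 := congrArg Matrix.det h1
  rw [hd, Matrix.det_diagonal] at e1
  simp only [Matrix.diag_apply] at e1
  rw [hp, Matrix.det_mul, Matrix.det_mul, Matrix.det_transpose] at e1
  have e2 := congrArg Matrix.det h2
  rw [Matrix.det_diagonal] at e2
  simp only [Matrix.diag_apply] at e2
  rw [h3, Matrix.det_mul, Matrix.det_mul, Matrix.det_transpose] at e2
  exact det_sq_cases _ _ _ e1 e2

namespace Nil3

variable (D : Nil3)

/-- A frame realising the normal form `k`. -/
def Realises (k : Fin 6) : Prop := ∃ e : Fin 7 → V7, gram e = gramK k ∧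
  ∀ j, D.ap (e j) = ∑ i, nilK k i j • e i

theorem Realises.matrix {k : Fin 6} (h : D.Realises k) :
    ∃ P : M7, Pᵀ * gramB * P = gramK k ∧ D.X * P = P * nilK k := by
  obtain ⟨e, hg, hx⟩ := h
  refine ⟨Matrix.of fun i j => e j i, (gram_columns e).trans hg, Matrix.ext fun i j => ?_⟩
  rw [show (D.X * Matrix.of fun i j => e j i) i j = D.ap (e j) i from rfl, hx j, Finset.sum_apply,
    Matrix.mul_apply]
  simp [mul_comm]

set_option maxHeartbeats 2000000 in
theorem realises_two_blocks (v w z : V7) (hv : bil v v = 0) (hv1 : bil v (D.ap v) = 2) (hv11 : bil (D.ap v) (D.ap v) = 2)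
    (hvb : D.beta v = 1) (c : F3) (hc : c ≠ 0) (hw : bil w w = 0) (hw1 : bil w (D.ap w) = 2 * c)
    (hw11 : bil (D.ap w) (D.ap w) = 2 * c) (hwb : D.beta w = c) (hperp : ∀ j, Perp (D.block v) (D.block w j))
    (hz : Perp (D.block v) z) (hz' : Perp (D.block w) z) (hzz : bil z z ≠ 0) (hNz : D.ap z = 0) :
    D.Realises (if c = 1 then 0 else 1) := by
  have p00 : bil v w = 0 := hperp 0 0
  have p01 : bil v (D.ap w) = 0 := hperp 1 0
  have p02 : bil v (D.ap (D.ap w)) = 0 := hperp 2 0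
  have p10 : bil (D.ap v) w = 0 := hperp 0 1
  have p11 : bil (D.ap v) (D.ap w) = 0 := hperp 1 1
  have p12 : bil (D.ap v) (D.ap (D.ap w)) = 0 := hperp 2 1
  have p20 : bil (D.ap (D.ap v)) w = 0 := hperp 0 2
  have p21 : bil (D.ap (D.ap v)) (D.ap w) = 0 := hperp 1 2
  have p22 : bil (D.ap (D.ap v)) (D.ap (D.ap w)) = 0 := hperp 2 2
  have q0 : bil v z = 0 := hz 0
  have q1 : bil (D.ap v) z = 0 := hz 1
  have q2 : bil (D.ap (D.ap v)) z = 0 := hz 2
  have r0 : bil w z = 0 := hz' 0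
  have r1 : bil (D.ap w) z = 0 := hz' 1
  have r2 : bil (D.ap (D.ap w)) z = 0 := hz' 2
  have hv2 : bil v (D.ap (D.ap v)) = 1 := hvb
  have hw2 : bil w (D.ap (D.ap w)) = c := hwb
  let e : Fin 7 → V7 := ![v, D.ap v, D.ap (D.ap v), w, D.ap w, D.ap (D.ap w), z]
  have hg : ∀ d, bil z z = d → gram e = !![0, 2, 1, 0, 0, 0, 0; 2, 2, 0, 0, 0, 0, 0; 1, 0, 0, 0, 0, 0, 0;
      0, 0, 0, 0, 2 * c, c, 0; 0, 0, 0, 2 * c, 2 * c, 0, 0; 0, 0, 0, c, 0, 0, 0; 0, 0, 0, 0, 0, 0, d] := by
    intro d hd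
    refine Matrix.ext fun i j => ?_
    fin_cases i <;> fin_cases j <;>
      first
      | (simp [gram, e, hd, hv, hv1, hv11, hv2, hw, hw1, hw11, hw2, D.bil_one_two, D.bil_two_two, p00, p01, p02,
          p10, p11, p12, p20, p21, p22, q0, q1, q2, r0, r1, r2]; done)
      | (simp only [gram, Matrix.of_apply, e]; rw [bil_comm]
         simp [hd, hv, hv1, hv11, hv2, hw, hw1, hw11, hw2, D.bil_one_two, D.bil_two_two, p00, p01, p02,
          p10, p11, p12, p20, p21, p22, q0, q1, q2, r0, r1, r2])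
  have hn : ∀ j, D.ap (e j) = ∑ i, nilK 0 i j • e i := by
    intro j
    fin_cases j <;> simp [e, nilK, Fin.sum_univ_seven, hNz, D.ap3]
  have h01 : nilK 1 = nilK 0 := rfl
  rcases f3_cases hc with rfl | rfl <;> rcases f3_cases hzz with hd | hd
  · exact ⟨e, (hg 1 hd).trans (by decide +kernel), hn⟩
  · exact (gram_absurd e _ badTA11 ((hg 2 hd).trans (by decide +kernel : _ = badA11)) (by decide +kernel)
      (by decide +kernel)).elim
  · exact (gram_absurd e _ badTA12 ((hg 1 hd).trans (by decide +kernel : _ = badA12)) (by decide +kernel)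
      (by decide +kernel)).elim
  · exact ⟨e, (hg 2 hd).trans (by decide +kernel), by rw [if_neg (by decide)]; simpa [h01] using hn⟩

set_option maxHeartbeats 2000000 in
theorem realises_block_hyp (v u w : V7) (c : F3) (hc : c ≠ 0) (hv : bil v v = 0) (hv1 : bil v (D.ap v) = 2 * c)
    (hv11 : bil (D.ap v) (D.ap v) = 2 * c) (hvb : D.beta v = c) (hperp : ∀ j, Perp (D.block v) (D.hyp u w j))
    (hu2 : D.ap (D.ap u) = 0) (hw2 : D.ap (D.ap w) = 0) (guu : bil u u = 0) (gww : bil w w = 0) (guw : bil u w = 0)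
    (guu1 : bil u (D.ap u) = 0) (gww1 : bil w (D.ap w) = 0) (g1 : bil (D.ap u) w = 1) (g2 : bil u (D.ap w) = 2)
    (g3 : bil (D.ap u) (D.ap w) = 0) (g4 : bil (D.ap u) (D.ap u) = 0) (g5 : bil (D.ap w) (D.ap w) = 0) :
    D.Realises 2 := by
  have p00 : bil v u = 0 := hperp 0 0
  have p01 : bil v w = 0 := hperp 1 0
  have p02 : bil v (D.ap u) = 0 := hperp 2 0
  have p03 : bil v (D.ap w) = 0 := hperp 3 0
  have p10 : bil (D.ap v) u = 0 := hperp 0 1
  have p11 : bil (D.ap v) w = 0 := hperp 1 1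
  have p12 : bil (D.ap v) (D.ap u) = 0 := hperp 2 1
  have p13 : bil (D.ap v) (D.ap w) = 0 := hperp 3 1
  have p20 : bil (D.ap (D.ap v)) u = 0 := hperp 0 2
  have p21 : bil (D.ap (D.ap v)) w = 0 := hperp 1 2
  have p22 : bil (D.ap (D.ap v)) (D.ap u) = 0 := hperp 2 2
  have p23 : bil (D.ap (D.ap v)) (D.ap w) = 0 := hperp 3 2
  have hv2 : bil v (D.ap (D.ap v)) = c := hvb
  let e : Fin 7 → V7 := ![v, D.ap v, D.ap (D.ap v), u, w, D.ap u, D.ap w]
  have hg : gram e = !![0, 2 * c, c, 0, 0, 0, 0; 2 * c, 2 * c, 0, 0, 0, 0, 0; c, 0, 0, 0, 0, 0, 0;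
      0, 0, 0, 0, 0, 0, 2; 0, 0, 0, 0, 0, 1, 0; 0, 0, 0, 0, 1, 0, 0; 0, 0, 0, 2, 0, 0, 0] := by
    refine Matrix.ext fun i j => ?_
    fin_cases i <;> fin_cases j <;>
      first
      | (simp [gram, e, hv, hv1, hv11, hv2, D.bil_one_two, D.bil_two_two, guu, gww, guw, guu1, gww1, g1, g2, g3,
          g4, g5, p00, p01, p02, p03, p10, p11, p12, p13, p20, p21, p22, p23]; done)
      | (simp only [gram, Matrix.of_apply, e]; rw [bil_comm]
         simp [hv, hv1, hv11, hv2, D.bil_one_two, D.bil_two_two, guu, gww, guw, guu1, gww1, g1, g2, g3,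
          g4, g5, p00, p01, p02, p03, p10, p11, p12, p13, p20, p21, p22, p23])
  have hn : ∀ j, D.ap (e j) = ∑ i, nilK 2 i j • e i := by
    intro j
    fin_cases j <;> simp [e, nilK, Fin.sum_univ_seven, hu2, hw2, D.ap3]
  rcases f3_cases hc with rfl | rfl
  · exact ⟨e, hg.trans (by decide +kernel), hn⟩
  · exact (gram_absurd e _ badTC2 (hg.trans (by decide +kernel : _ = badC2)) (by decide +kernel)
      (by decide +kernel)).elim

set_option maxHeartbeats 2000000 in
theorem realises_block_fixed (v a b s d : V7) (c : F3) (hc : c ≠ 0) (hv : bil v v = 0)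
    (hv1 : bil v (D.ap v) = 2 * c) (hv11 : bil (D.ap v) (D.ap v) = 2 * c) (hvb : D.beta v = c)
    (hA : Perp (D.block v) a) (hB : Perp (D.block v) b) (hS : Perp (D.block v) s) (hD : Perp (D.block v) d)
    (h1 : bil a a = 1) (h2 : bil b b = 1) (h3 : bil s s = 1) (hd0 : bil d d ≠ 0) (hab : bil a b = 0)
    (has : bil a s = 0) (had : bil a d = 0) (hbs : bil b s = 0) (hbd : bil b d = 0) (hsd : bil s d = 0)
    (na : D.ap a = 0) (nb : D.ap b = 0) (ns : D.ap s = 0) (nd : D.ap d = 0) :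
    D.Realises (if c = 1 then 3 else 4) := by
  have a0 : bil v a = 0 := hA 0
  have a1 : bil (D.ap v) a = 0 := hA 1
  have a2 : bil (D.ap (D.ap v)) a = 0 := hA 2
  have b0 : bil v b = 0 := hB 0
  have b1 : bil (D.ap v) b = 0 := hB 1
  have b2 : bil (D.ap (D.ap v)) b = 0 := hB 2
  have s0 : bil v s = 0 := hS 0
  have s1 : bil (D.ap v) s = 0 := hS 1
  have s2 : bil (D.ap (D.ap v)) s = 0 := hS 2
  have d0 : bil v d = 0 := hD 0
  have d1 : bil (D.ap v) d = 0 := hD 1
  have d2 : bil (D.ap (D.ap v)) d = 0 := hD 2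
  have hv2 : bil v (D.ap (D.ap v)) = c := hvb
  let e : Fin 7 → V7 := ![v, D.ap v, D.ap (D.ap v), a, b, s, d]
  have hg : ∀ t, bil d d = t → gram e = !![0, 2 * c, c, 0, 0, 0, 0; 2 * c, 2 * c, 0, 0, 0, 0, 0; c, 0, 0, 0, 0, 0, 0;
      0, 0, 0, 1, 0, 0, 0; 0, 0, 0, 0, 1, 0, 0; 0, 0, 0, 0, 0, 1, 0; 0, 0, 0, 0, 0, 0, t] := by
    intro t ht
    refine Matrix.ext fun i j => ?_
    fin_cases i <;> fin_cases j <;>
      first
      | (simp [gram, e, ht, hv, hv1, hv11, hv2, D.bil_one_two, D.bil_two_two, h1, h2, h3, hab, has, had, hbs, hbd,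
          hsd, a0, a1, a2, b0, b1, b2, s0, s1, s2, d0, d1, d2]; done)
      | (simp only [gram, Matrix.of_apply, e]; rw [bil_comm]
         simp [ht, hv, hv1, hv11, hv2, D.bil_one_two, D.bil_two_two, h1, h2, h3, hab, has, had, hbs, hbd,
          hsd, a0, a1, a2, b0, b1, b2, s0, s1, s2, d0, d1, d2])
  have hn : ∀ j, D.ap (e j) = ∑ i, nilK 3 i j • e i := by
    intro j
    fin_cases j <;> simp [e, nilK, Fin.sum_univ_seven, na, nb, ns, nd, D.ap3]
  have h34 : nilK 4 = nilK 3 := rfl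
  rcases f3_cases hc with rfl | rfl <;> rcases f3_cases hd0 with ht | ht
  · exact ⟨e, (hg 1 ht).trans (by decide +kernel), hn⟩
  · exact (gram_absurd e _ badTD1 ((hg 2 ht).trans (by decide +kernel : _ = badD1)) (by decide +kernel)
      (by decide +kernel)).elim
  · exact (gram_absurd e _ badTD2 ((hg 1 ht).trans (by decide +kernel : _ = badD2)) (by decide +kernel)
      (by decide +kernel)).elim
  · exact ⟨e, (hg 2 ht).trans (by decide +kernel), by rw [if_neg (by decide)]; simpa [h34] using hn⟩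

set_option maxHeartbeats 2000000 in
theorem realises_hyp_fixed (u w a b d : V7) (hu2 : D.ap (D.ap u) = 0) (hw2 : D.ap (D.ap w) = 0) (guu : bil u u = 0)
    (gww : bil w w = 0) (guw : bil u w = 0)
    (guu1 : bil u (D.ap u) = 0) (gww1 : bil w (D.ap w) = 0) (g1 : bil (D.ap u) w = 1) (g2 : bil u (D.ap w) = 2)
    (g3 : bil (D.ap u) (D.ap w) = 0) (g4 : bil (D.ap u) (D.ap u) = 0) (g5 : bil (D.ap w) (D.ap w) = 0)
    (hA : Perp (D.hyp u w) a) (hB : Perp (D.hyp u w) b) (hD : Perp (D.hyp u w) d)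
    (h1 : bil a a = 1) (h2 : bil b b = 1) (hd0 : bil d d ≠ 0) (hab : bil a b = 0) (had : bil a d = 0)
    (hbd : bil b d = 0) (na : D.ap a = 0) (nb : D.ap b = 0) (nd : D.ap d = 0) : D.Realises 5 := by
  have a0 : bil u a = 0 := hA 0
  have a1 : bil w a = 0 := hA 1
  have a2 : bil (D.ap u) a = 0 := hA 2
  have a3 : bil (D.ap w) a = 0 := hA 3
  have b0 : bil u b = 0 := hB 0
  have b1 : bil w b = 0 := hB 1
  have b2 : bil (D.ap u) b = 0 := hB 2
  have b3 : bil (D.ap w) b = 0 := hB 3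
  have d0 : bil u d = 0 := hD 0
  have d1 : bil w d = 0 := hD 1
  have d2 : bil (D.ap u) d = 0 := hD 2
  have d3 : bil (D.ap w) d = 0 := hD 3
  let e : Fin 7 → V7 := ![u, w, D.ap u, D.ap w, a, b, d]
  have hg : ∀ t, bil d d = t → gram e = !![0, 0, 0, 2, 0, 0, 0; 0, 0, 1, 0, 0, 0, 0; 0, 1, 0, 0, 0, 0, 0;
      2, 0, 0, 0, 0, 0, 0; 0, 0, 0, 0, 1, 0, 0; 0, 0, 0, 0, 0, 1, 0; 0, 0, 0, 0, 0, 0, t] := by
    intro t ht
    refine Matrix.ext fun i j => ?_
    fin_cases i <;> fin_cases j <;>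
      first
      | (simp [gram, e, ht, guu, gww, guw, guu1, gww1, g1, g2, g3, g4, g5, h1, h2, hab, had, hbd, a0, a1, a2, a3,
          b0, b1, b2, b3, d0, d1, d2, d3]; done)
      | (simp only [gram, Matrix.of_apply, e]; rw [bil_comm]
         simp [ht, guu, gww, guw, guu1, gww1, g1, g2, g3, g4, g5, h1, h2, hab, had, hbd, a0, a1, a2, a3,
          b0, b1, b2, b3, d0, d1, d2, d3])
  have hn : ∀ j, D.ap (e j) = ∑ i, nilK 5 i j • e i := by
    intro j
    fin_cases j <;> simp [e, nilK, Fin.sum_univ_seven, hu2, hw2, na, nb, nd]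
  rcases f3_cases hd0 with ht | ht
  · exact ⟨e, (hg 1 ht).trans (by decide +kernel), hn⟩
  · exact (gram_absurd e _ badTE1 ((hg 2 ht).trans (by decide +kernel : _ = badE1)) (by decide +kernel)
      (by decide +kernel)).elim

/-- The empty family. -/
def none7 : Fin 0 → V7 := Fin.elim0

theorem isFrame_none : IsFrame none7 := ⟨1, Matrix.ext fun i => Fin.elim0 i⟩
theorem closed_none : D.Closed none7 := fun _ _ i => Fin.elim0 i
theorem perp_none (y : V7) : Perp none7 y := fun i => Fin.elim0 i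

theorem perp_sum {κ μ : Type} {e : κ → V7} {f : μ → V7} {y : V7} (h : Perp (Sum.elim e f) y) :
    Perp e y ∧ Perp f y := ⟨fun i => h (Sum.inl i), fun i => h (Sum.inr i)⟩

theorem closed_single {z : V7} (hz : D.ap z = 0) : D.Closed (fun _ : Unit => z) :=
  D.closed_of _ fun _ => Or.inr hz

/-- Around a three-block with no second three-block. -/
theorem realises_block (v : V7) (c : F3) (hc : c ≠ 0) (hv : bil v v = 0) (hv1 : bil v (D.ap v) = 2 * c)
    (hv11 : bil (D.ap v) (D.ap v) = 2 * c) (hvb : D.beta v = c) (hf : IsFrame (D.block v))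
    (h : ∀ z, Perp (D.block v) z → D.beta z = 0) : ∃ k, D.Realises k := by
  have hcl := D.closed_block v
  by_cases hN : ∀ y z, Perp (D.block v) y → Perp (D.block v) z → bil (D.ap y) z = 0
  · have hfix : ∀ z, Perp (D.block v) z → D.ap z = 0 := fun z hz => D.fixed hcl hf hN hz
    obtain ⟨a, ha, ha1⟩ := hf.exists_one (by simp)
    have f1 := hf.sum (isFrame_single (show bil a a ≠ 0 by rw [ha1]; exact one_ne_zero)) fun _ => ha
    obtain ⟨b, hb, hb1⟩ := f1.exists_one (by simp)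
    have f2 := f1.sum (isFrame_single (show bil b b ≠ 0 by rw [hb1]; exact one_ne_zero)) fun _ => hb
    obtain ⟨s, hs, hs1⟩ := f2.exists_one (by simp)
    have f3 := f2.sum (isFrame_single (show bil s s ≠ 0 by rw [hs1]; exact one_ne_zero)) fun _ => hs
    obtain ⟨d, hd, hd0⟩ := f3.exists_value (by simp)
    have hbv := (perp_sum hb).1
    have hsv := (perp_sum (perp_sum hs).1).1
    have hdv := (perp_sum (perp_sum (perp_sum hd).1).1).1
    exact ⟨_, D.realises_block_fixed v a b s d c hc hv hv1 hv11 hvb ha hbv hsv hdv ha1 hb1 hs1 hd0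
      (hb (Sum.inr ())) (hs (Sum.inl (Sum.inr ()))) (hd (Sum.inl (Sum.inl (Sum.inr ())))) (hs (Sum.inr ()))
      (hd (Sum.inl (Sum.inr ()))) (hd (Sum.inr ())) (hfix a ha) (hfix b hbv) (hfix s hsv) (hfix d hdv)⟩
  · push_neg at hN
    obtain ⟨y, z, hy, hz, hyz⟩ := hN
    obtain ⟨u, w, hu, hw, hu2, hw2, a1, a2, a3, a4, a5, a6, a7, a8, a9, a10, -⟩ :=
      D.exists_hyp hcl (fun x hx => D.sq_zero hcl hf h hx) hy hz hyz
    exact ⟨_, D.realises_block_hyp v u w c hc hv hv1 hv11 hvb (D.perp_hyp hcl hu hw) hu2 hw2 a1 a2 a3 a4 a5 a6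
      a7 a8 a9 a10⟩

/-- Every non-trivial datum has a normal form. -/
theorem exists_realises (h0 : ∃ u, D.ap u ≠ 0) : ∃ k, D.Realises k := by
  by_cases h1 : ∃ y, D.beta y = 1
  · obtain ⟨y, hy⟩ := h1
    obtain ⟨v, -, hvb, hv, hv1, hv11, hf⟩ := D.exists_block D.closed_none (perp_none y) (by rw [hy]; exact one_ne_zero)
    rw [hy] at hvb hv1 hv11
    by_cases h2 : ∀ z, Perp (D.block v) z → D.beta z = 0
    · exact D.realises_block v 1 one_ne_zero hv hv1 hv11 hvb hf h2
    push_neg at h2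
    obtain ⟨z, hz, hzb⟩ := h2
    obtain ⟨w, hw, hwb, hww, hw1, hw11, hwf⟩ := D.exists_block (D.closed_block v) hz hzb
    have hp := D.perp_block (D.closed_block v) hw
    have f6 := hf.sum hwf hp
    have hcl6 := D.closed_sum (D.closed_block v) (D.closed_block w)
    obtain ⟨t, ht, ht0⟩ := f6.exists_value (by simp)
    rw [mul_one] at hv1 hv11
    exact ⟨_, D.realises_two_blocks v w t hv hv1 hv11 hvb _ hzb hww hw1 hw11 hwb hp (perp_sum ht).1 (perp_sum ht).2
      ht0 (D.fixed_of_card hcl6 f6 (by simp) (fun x hx => D.beta_zero_of_card hcl6 f6 (by simp) hx) ht)⟩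
  · push_neg at h1
    by_cases h2 : ∃ y, D.beta y ≠ 0
    · obtain ⟨y, hy0⟩ := h2
      have hy : D.beta y = 2 := (f3_cases hy0).resolve_left (h1 y)
      obtain ⟨v, -, hvb, hv, hv1, hv11, hf⟩ := D.exists_block D.closed_none (perp_none y) hy0
      rw [hy] at hvb hv1 hv11
      refine D.realises_block v 2 two_ne hv hv1 hv11 hvb hf fun z hz => ?_
      by_contra hz0
      have hz2 : bil z (D.ap (D.ap z)) = 2 := (f3_cases hz0).resolve_left (h1 z)
      refine h1 (v + z) ?_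
      have e1 : bil v (D.ap (D.ap z)) = 0 := D.closed_block v _ (D.closed_block v z hz) 0
      have hv2 : bil v (D.ap (D.ap v)) = 2 := hvb
      rw [beta, D.ap_add, D.ap_add, bil_add_left, bil_add_right, bil_add_right, D.beta_comm z v, e1, hv2, hz2]
      rfl
    · push_neg at h2
      have hsq : ∀ z, Perp none7 z → D.ap (D.ap z) = 0 := fun z hz =>
        D.sq_zero D.closed_none isFrame_none (fun x _ => h2 x) hz
      obtain ⟨y, z, hyz⟩ : ∃ y z, bil (D.ap y) z ≠ 0 := by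
        obtain ⟨u, hu⟩ := h0
        by_contra h
        push_neg at h
        exact hu (bil_nondeg _ fun w => h u w)
      obtain ⟨u, w, -, -, hu2, hw2, a1, a2, a3, a4, a5, a6, a7, a8, a9, a10, hf⟩ :=
        D.exists_hyp D.closed_none hsq (perp_none y) (perp_none z) hyz
      have hfix : ∀ x, Perp (D.hyp u w) x → D.ap x = 0 := fun x hx =>
        D.fixed_of_card (D.closed_hyp hu2 hw2) hf (by simp) (fun x _ => h2 x) hx
      obtain ⟨a, ha, ha1⟩ := hf.exists_one (by simp)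
      have f1 := hf.sum (isFrame_single (show bil a a ≠ 0 by rw [ha1]; exact one_ne_zero)) fun _ => ha
      obtain ⟨b, hb, hb1⟩ := f1.exists_one (by simp)
      have f2 := f1.sum (isFrame_single (show bil b b ≠ 0 by rw [hb1]; exact one_ne_zero)) fun _ => hb
      obtain ⟨d, hd, hd0⟩ := f2.exists_value (by simp)
      exact ⟨_, D.realises_hyp_fixed u w a b d hu2 hw2 a1 a2 a3 a4 a5 a6 a7 a8 a9 a10 ha (perp_sum hb).1
        (perp_sum (perp_sum hd).1).1 ha1 hb1 hd0 (hb (Sum.inr ())) (hd (Sum.inl (Sum.inr ()))) (hd (Sum.inr ()))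
        (hfix a ha) (hfix b (perp_sum hb).1) (hfix d (perp_sum (perp_sum hd).1).1)⟩

end Nil3

end Cfsg.Agent.O73Three
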