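/-
The normaliser of the split representative has trivial spinor sign.
-/
import Cfsg.Agent.O73Three.Basic

set_option autoImplicit false

namespace Cfsg.Agent.O73Three

open Matrix

theorem frame_facts : ∀ k : Fin 6, frameInvK k * frameK k = 1 ∧ frameK k * frameInvK k = 1 ∧
    (frameInvK k)ᵀ * gramK k * frameInvK k = gramB ∧ (frameK k)ᵀ * gramB * frameK k = gramK k ∧
    (1 + nilK k)ᵀ * gramK k * (1 + nilK k) = gramK k ∧ (1 + nilK k) ^ 3 = 1 := by
  decide +kernel

/-- Transport to coordinates of a frame. -/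
def toK (k : Fin 6) (M : M7) : M7 := frameInvK k * M * frameK k

/-- Transport from coordinates of a frame. -/
def ofK (k : Fin 6) (A : M7) : M7 := frameK k * A * frameInvK k

theorem ofK_mul (k : Fin 6) (A A' : M7) : ofK k A * ofK k A' = ofK k (A * A') := by
  rw [ofK, ofK, ofK, Matrix.mul_assoc, ← Matrix.mul_assoc (frameInvK k), ← Matrix.mul_assoc (frameInvK k),
    (frame_facts k).1, Matrix.one_mul]
  simp only [Matrix.mul_assoc]

theorem toK_mul (k : Fin 6) (M M' : M7) : toK k M * toK k M' = toK k (M * M') := by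
  rw [toK, toK, toK, Matrix.mul_assoc, ← Matrix.mul_assoc (frameK k), ← Matrix.mul_assoc (frameK k),
    (frame_facts k).2.1, Matrix.one_mul]
  simp only [Matrix.mul_assoc]

theorem toK_ofK (k : Fin 6) (A : M7) : toK k (ofK k A) = A := by
  rw [toK, ofK, Matrix.mul_assoc, Matrix.mul_assoc, (frame_facts k).1, Matrix.mul_one, ← Matrix.mul_assoc,
    (frame_facts k).1, Matrix.one_mul]

theorem ofK_toK (k : Fin 6) (M : M7) : ofK k (toK k M) = M := by
  rw [toK, ofK, Matrix.mul_assoc, Matrix.mul_assoc, (frame_facts k).2.1, Matrix.mul_one, ← Matrix.mul_assoc,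
    (frame_facts k).2.1, Matrix.one_mul]

theorem ofK_one (k : Fin 6) : ofK k 1 = 1 := by rw [ofK, Matrix.mul_one, (frame_facts k).2.1]
theorem toK_one (k : Fin 6) : toK k 1 = 1 := by rw [toK, Matrix.mul_one, (frame_facts k).1]

theorem ofK_preserves (k : Fin 6) {A : M7} (h : Aᵀ * gramK k * A = gramK k) :
    (ofK k A)ᵀ * gramB * ofK k A = gramB := by
  conv_rhs => rw [← (frame_facts k).2.2.1, ← h, ← (frame_facts k).2.2.2.1]
  simp only [ofK, Matrix.transpose_mul, Matrix.mul_assoc]

theorem toK_preserves (k : Fin 6) (g : G7) : (toK k (Reflections.mat g))ᵀ * gramK k * toK k (Reflections.mat g) = gramK k := by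
  conv_rhs => rw [← (frame_facts k).2.2.2.1, ← mat_preserves g]
  rw [toK]
  conv_rhs => rw [← (frame_facts k).2.2.1]
  simp only [Matrix.transpose_mul, Matrix.mul_assoc]

/-- An isometry given in coordinates of a frame. -/
noncomputable def liftK (k : Fin 6) (A : M7) (h : Aᵀ * gramK k * A = gramK k) : G7 :=
  ofMat (ofK k A) (ofK_preserves k h)

theorem mat_liftK (k : Fin 6) (A : M7) (h : Aᵀ * gramK k * A = gramK k) :
    Reflections.mat (liftK k A h) = ofK k A := rfl

/-- The representative of the normal form `k`. -/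
noncomputable def rep (k : Fin 6) : G7 := liftK k (1 + nilK k) (frame_facts k).2.2.2.2.1

theorem mat_rep (k : Fin 6) : Reflections.mat (rep k) = ofK k (1 + nilK k) := rfl

theorem rep_cube (k : Fin 6) : rep k ^ 3 = 1 := by
  refine Reflections.eq_of_mat ?_
  rw [mat_pow', mat_rep, pow_three, ofK_mul, ofK_mul, ← pow_three, (frame_facts k).2.2.2.2.2, ofK_one]
  rfl

/-- An element `c` of `SL₂(3)` acting on the pair of two-blocks. -/
def blk (p q r s : F3) : M7 := !![1, 0, 0, 0, 0, 0, 0; 0, 1, 0, 0, 0, 0, 0; 0, 0, 1, 0, 0, 0, 0;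
  0, 0, 0, p, q, 0, 0; 0, 0, 0, r, s, 0, 0; 0, 0, 0, 0, 0, p, q; 0, 0, 0, 0, 0, r, s]

theorem blk_mul (p q r s p' q' r' s' : F3) :
    blk p q r s * blk p' q' r' s' = blk (p * p' + q * r') (p * q' + q * s') (r * p' + s * r') (r * q' + s * s') := by
  refine Matrix.ext fun i j => ?_
  fin_cases i <;> fin_cases j <;> simp [blk, Matrix.mul_apply, Fin.sum_univ_seven]

theorem blk_gen : ∀ x : F3, (blk 1 x 0 1)ᵀ * gramK 2 * blk 1 x 0 1 = gramK 2 ∧ blk 1 x 0 1 ^ 3 = 1 ∧
    (blk 1 0 x 1)ᵀ * gramK 2 * blk 1 0 x 1 = gramK 2 ∧ blk 1 0 x 1 ^ 3 = 1 := by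
  decide +kernel

theorem sl2_gen : ∀ p q r s : F3, p * s - q * r = 1 → ∃ x y z w : F3,
    p = (1 + x * y) + ((1 + x * y) * z + x) * w ∧ q = (1 + x * y) * z + x ∧
      r = y + (y * z + 1) * w ∧ s = y * z + 1 := by
  decide +kernel

theorem psi_liftK_cube {k : Fin 6} {A : M7} (h : Aᵀ * gramK k * A = gramK k) (h3 : A ^ 3 = 1) :
    psi (liftK k A h) = 1 := by
  refine sign_of_pow_three (n := 1) (Reflections.eq_of_mat ?_)
  rw [pow_one, mat_pow', mat_liftK, pow_three, ofK_mul, ofK_mul, ← pow_three, h3, ofK_one]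
  rfl

theorem exists_blk (p q r s : F3) (h : p * s - q * r = 1) :
    ∃ g : G7, toK 2 (Reflections.mat g) = blk p q r s ∧ psi g = 1 := by
  obtain ⟨x, y, z, w, hp, hq, hr, hs⟩ := sl2_gen p q r s h
  refine ⟨liftK 2 _ (blk_gen x).1 * liftK 2 _ (blk_gen y).2.2.1 * liftK 2 _ (blk_gen z).1 * liftK 2 _ (blk_gen w).2.2.1, ?_, ?_⟩
  · rw [mat_mul', mat_mul', mat_mul', mat_liftK, mat_liftK, mat_liftK, mat_liftK, ofK_mul, ofK_mul, ofK_mul,
      toK_ofK, blk_mul, blk_mul, blk_mul, hp, hq, hr, hs]
    congr 1 <;> ring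
  · rw [map_mul, map_mul, map_mul, psi_liftK_cube _ (blk_gen x).2.1, psi_liftK_cube _ (blk_gen y).2.2.2,
      psi_liftK_cube _ (blk_gen z).2.1, psi_liftK_cube _ (blk_gen w).2.2.2]
    rfl

theorem neg_word_facts : (∀ v ∈ negWord, bil v v ≠ 0) ∧ wordM negWord = (2 : F3) • (1 : M7) ∧
    wordSign negWord = (1, -1) := by
  decide +kernel

/-- Minus one. -/
noncomputable def negIso : G7 := wordIso negWord

theorem psi_negIso : psi negIso = 1 ∧ psi' negIso = -1 :=
  Prod.ext_iff.mp ((psi_wordIso _ neg_word_facts.1).trans neg_word_facts.2.2)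

theorem mat_negIso : Reflections.mat negIso = (2 : F3) • (1 : M7) :=
  (mat_wordIso neg_word_facts.1).trans neg_word_facts.2.1

theorem negIso_comm (g : G7) : negIso * g = g * negIso := by
  refine Reflections.eq_of_mat ?_
  rw [mat_mul', mat_mul', mat_negIso, Matrix.smul_mul, Matrix.mul_smul, Matrix.one_mul, Matrix.mul_one]

/-- The levels of the flag. -/
def lvl : Fin 7 → ℕ := ![4, 2, 0, 3, 3, 1, 1]

theorem pow_eq_zero_of_levels (T : M7) (h : ∀ i j, lvl j ≤ lvl i → T i j = 0) : T ^ 5 = 0 := by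
  have key : ∀ n : ℕ, ∀ i j, (T ^ n) i j ≠ 0 → lvl i + n ≤ lvl j := by
    intro n
    induction n with
    | zero =>
      intro i j hij
      by_cases he : i = j
      · rw [he, add_zero]
      · rw [pow_zero, Matrix.one_apply_ne he] at hij
        exact absurd rfl hij
    | succ n ih =>
      intro i j hij
      rw [pow_succ, Matrix.mul_apply] at hij
      obtain ⟨l, -, hl⟩ := Finset.exists_ne_zero_of_sum_ne_zero hij
      have h1 := ih i l (left_ne_zero_of_mul hl)
      have h2 : lvl l < lvl j := Nat.lt_of_not_le fun hle => right_ne_zero_of_mul hl (h l j hle)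
      omega
  refine Matrix.ext fun i j => ?_
  by_contra hne
  have h1 := key 5 i j hne
  have h2 : ∀ j, lvl j ≤ 4 := by decide
  have := h2 j
  omega

set_option maxHeartbeats 2000000 in
theorem psi_commute (g : G7) (hg : g * rep 2 = rep 2 * g) : psi g = 1 := by
  set A := toK 2 (Reflections.mat g) with hA
  have hG : Aᵀ * gramK 2 * A = gramK 2 := toK_preserves 2 g
  have hN : A * nilK 2 = nilK 2 * A := by
    have e := congrArg (fun x => toK 2 (Reflections.mat x)) hg
    simp only [mat_mul', ← toK_mul, mat_rep, toK_ofK] at e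
    rw [Matrix.mul_add, Matrix.add_mul, Matrix.mul_one, Matrix.one_mul] at e
    exact add_left_cancel e
  have E := fun i j => congrFun (congrFun hN i) j
  have hG02 := congrFun (congrFun hG 0) 2
  have hG54 := congrFun (congrFun hG 5) 4
  simp [Matrix.mul_apply, Fin.sum_univ_seven, gramK] at hG02 hG54
  have a01 : A 0 1 = 0 := by
    have e := E 0 0; simp [Matrix.mul_apply, Fin.sum_univ_seven, nilK] at e; first | exact e | exact e.symm
  have a02 : A 0 2 = 0 := by
    have e := E 0 1; simp [Matrix.mul_apply, Fin.sum_univ_seven, nilK] at e; first | exact e | exact e.symm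
  have a05 : A 0 5 = 0 := by
    have e := E 0 3; simp [Matrix.mul_apply, Fin.sum_univ_seven, nilK] at e; first | exact e | exact e.symm
  have a06 : A 0 6 = 0 := by
    have e := E 0 4; simp [Matrix.mul_apply, Fin.sum_univ_seven, nilK] at e; first | exact e | exact e.symm
  have a31 : A 3 1 = 0 := by
    have e := E 3 0; simp [Matrix.mul_apply, Fin.sum_univ_seven, nilK] at e; first | exact e | exact e.symm
  have a32 : A 3 2 = 0 := by
    have e := E 3 1; simp [Matrix.mul_apply, Fin.sum_univ_seven, nilK] at e; first | exact e | exact e.symm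
  have a35 : A 3 5 = 0 := by
    have e := E 3 3; simp [Matrix.mul_apply, Fin.sum_univ_seven, nilK] at e; first | exact e | exact e.symm
  have a36 : A 3 6 = 0 := by
    have e := E 3 4; simp [Matrix.mul_apply, Fin.sum_univ_seven, nilK] at e; first | exact e | exact e.symm
  have a41 : A 4 1 = 0 := by
    have e := E 4 0; simp [Matrix.mul_apply, Fin.sum_univ_seven, nilK] at e; first | exact e | exact e.symm
  have a42 : A 4 2 = 0 := by
    have e := E 4 1; simp [Matrix.mul_apply, Fin.sum_univ_seven, nilK] at e; first | exact e | exact e.symm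
  have a45 : A 4 5 = 0 := by
    have e := E 4 3; simp [Matrix.mul_apply, Fin.sum_univ_seven, nilK] at e; first | exact e | exact e.symm
  have a46 : A 4 6 = 0 := by
    have e := E 4 4; simp [Matrix.mul_apply, Fin.sum_univ_seven, nilK] at e; first | exact e | exact e.symm
  have a15 : A 1 5 = 0 := by
    have e := E 2 5; simp [Matrix.mul_apply, Fin.sum_univ_seven, nilK] at e; first | exact e | exact e.symm
  have a16 : A 1 6 = 0 := by
    have e := E 2 6; simp [Matrix.mul_apply, Fin.sum_univ_seven, nilK] at e; first | exact e | exact e.symm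
  have a12 : A 1 2 = 0 := by
    have e := E 2 2; simp [Matrix.mul_apply, Fin.sum_univ_seven, nilK] at e; first | exact e | exact e.symm
  have a52 : A 5 2 = 0 := by
    have e := E 5 1; simp [Matrix.mul_apply, Fin.sum_univ_seven, nilK] at e
    first | exact e.trans a31 | exact e.symm.trans a31
  have a62 : A 6 2 = 0 := by
    have e := E 6 1; simp [Matrix.mul_apply, Fin.sum_univ_seven, nilK] at e
    first | exact e.trans a41 | exact e.symm.trans a41
  have a03 : A 0 3 = 0 := by
    have e := E 1 3; simp [Matrix.mul_apply, Fin.sum_univ_seven, nilK] at e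
    rw [← e, a15]
  have a04 : A 0 4 = 0 := by
    have e := E 1 4; simp [Matrix.mul_apply, Fin.sum_univ_seven, nilK] at e
    rw [← e, a16]
  have a11 : A 1 1 = A 0 0 := by
    have e := E 1 0; simp [Matrix.mul_apply, Fin.sum_univ_seven, nilK] at e; first | exact e | exact e.symm
  have a55 : A 5 5 = A 3 3 := by
    have e := E 5 3; simp [Matrix.mul_apply, Fin.sum_univ_seven, nilK] at e; first | exact e | exact e.symm
  have a56 : A 5 6 = A 3 4 := by
    have e := E 5 4; simp [Matrix.mul_apply, Fin.sum_univ_seven, nilK] at e; first | exact e | exact e.symm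
  have a65 : A 6 5 = A 4 3 := by
    have e := E 6 3; simp [Matrix.mul_apply, Fin.sum_univ_seven, nilK] at e; first | exact e | exact e.symm
  have a66 : A 6 6 = A 4 4 := by
    have e := E 6 4; simp [Matrix.mul_apply, Fin.sum_univ_seven, nilK] at e; first | exact e | exact e.symm
  have a22 : A 2 2 = A 0 0 := by
    have e := E 2 1; simp [Matrix.mul_apply, Fin.sum_univ_seven, nilK] at e
    rw [e, a11]
  clear E
  simp [a01, a02, a03, a04, a05, a06, a31, a32, a35, a36, a41, a42, a45, a46, a11, a12, a15, a16, a52, a62, a22,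
    a55, a56, a65, a66] at hG02 hG54
  set a := A 0 0 with ha
  have haa : a * a = 1 := by linear_combination hG02
  have hdet : A 3 3 * A 4 4 - A 3 4 * A 4 3 = 1 := by linear_combination hG54 - (A 3 4 * A 4 3) * three_eq
  obtain ⟨r, hr, hrp⟩ := exists_blk (a * A 4 4) (-(a * A 3 4)) (-(a * A 4 3)) (a * A 3 3)
    (by linear_combination (A 3 3 * A 4 4 - A 3 4 * A 4 3) * haa + hdet)
  obtain ⟨s, hs, hsp⟩ : ∃ s : G7, toK 2 (Reflections.mat s) = a • (1 : M7) ∧ psi s = 1 := by
    rcases mul_self_eq_one_iff.mp haa with h1 | h1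
    · exact ⟨1, by rw [mat_one', toK_one, h1, one_smul], map_one _⟩
    · refine ⟨negIso, ?_, psi_negIso.1⟩
      rw [mat_negIso, toK, Matrix.mul_smul, Matrix.smul_mul, Matrix.mul_one, (frame_facts 2).1, h1]
      rfl
  have hT : toK 2 (Reflections.mat (s * (r * g))) =
      a • (blk (a * A 4 4) (-(a * A 3 4)) (-(a * A 4 3)) (a * A 3 3) * A) := by
    rw [mat_mul', mat_mul', ← toK_mul, ← toK_mul, hs, hr, Matrix.smul_mul, Matrix.one_mul]
  set T := toK 2 (Reflections.mat (s * (r * g))) - 1 with hTdef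
  have hT5 : T ^ 5 = 0 := by
    refine pow_eq_zero_of_levels T fun i j hij => ?_
    rw [hTdef, hT]
    fin_cases i <;> fin_cases j <;> first
      | (simp [lvl] at hij; done)
      | (simp [blk, Matrix.mul_apply, Matrix.vecMul, dotProduct, Fin.sum_univ_seven, a01, a02, a03, a04, a05, a06, a31, a32, a35, a36, a41,
          a42, a45, a46, a11, a12, a15, a16, a52, a62, a22, a55, a56, a65, a66, ← ha, haa]; done)
      | (simp [blk, Matrix.mul_apply, Matrix.vecMul, dotProduct, Fin.sum_univ_seven, a01, a02, a03, a04, a05, a06, a31, a32, a35, a36, a41,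
          a42, a45, a46, a11, a12, a15, a16, a52, a62, a22, a55, a56, a65, a66, ← ha]
         linear_combination (A 3 3 * A 4 4 - A 3 4 * A 4 3) * haa + hdet)
      | (simp [blk, Matrix.mul_apply, Matrix.vecMul, dotProduct, Fin.sum_univ_seven, a01, a02, a03, a04, a05, a06, a31, a32, a35, a36, a41,
          a42, a45, a46, a11, a12, a15, a16, a52, a62, a22, a55, a56, a65, a66, ← ha]
         right; ring)
      | (simp [blk, Matrix.mul_apply, Matrix.vecMul, dotProduct, Fin.sum_univ_seven, a01, a02, a03, a04, a05, a06, a31, a32, a35, a36, a41,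
          a42, a45, a46, a11, a12, a15, a16, a52, a62, a22, a55, a56, a65, a66, ← ha]
         ring)
  have h9 : (s * (r * g)) ^ 3 ^ 2 = 1 := by
    refine Reflections.eq_of_mat ?_
    haveI : CharP M7 3 := charP_of_injective_algebraMap (algebraMap F3 M7).injective 3
    have e : toK 2 (Reflections.mat (s * (r * g))) = T + 1 := (sub_add_cancel _ _).symm
    have hpow : ∀ n, toK 2 (Reflections.mat (s * (r * g)) ^ n) = toK 2 (Reflections.mat (s * (r * g))) ^ n := by
      intro n
      induction n with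
      | zero => rw [pow_zero, pow_zero, toK_one]
      | succ n ih => rw [pow_succ, pow_succ, ← toK_mul, ih]
    have h1 : toK 2 (Reflections.mat (s * (r * g)) ^ 3 ^ 2) = 1 := by
      rw [hpow, e, add_pow_char_pow_of_commute (p := 3) (h := Commute.one_right T), one_pow,
        pow_eq_zero_of_le (show 5 ≤ 3 ^ 2 by norm_num) hT5, zero_add]
    rw [mat_pow', ← ofK_toK 2 (_ ^ _), h1, ofK_one]
    rfl
  have h := sign_of_pow_three (f := psi) h9
  rw [map_mul, map_mul, hsp, hrp, one_mul, one_mul] at h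
  exact h

theorem inv_word_facts : (∀ v ∈ invWord, bil v v ≠ 0) ∧
    ofK 2 (1 + nilK 2) * wordM invWord * ofK 2 (1 + nilK 2) = wordM invWord ∧ (wordSign invWord).1 = 1 := by
  decide +kernel

set_option maxHeartbeats 1000000 in
/-- The normaliser of the split representative has trivial sign. -/
theorem psi_normalize (g : G7) (hg : g * rep 2 * g⁻¹ = rep 2 ∨ g * rep 2 * g⁻¹ = (rep 2)⁻¹) : psi g = 1 := by
  rcases hg with h | h
  · exact psi_commute g (mul_inv_eq_iff_eq_mul.mp h)
  · set r := wordIso invWord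
    have hr : rep 2 * r * rep 2 = r := Reflections.eq_of_mat (by
      rw [mat_mul', mat_mul', mat_wordIso inv_word_facts.1, mat_rep]; exact inv_word_facts.2.1)
    have hri : r * rep 2 = (rep 2)⁻¹ * r := by rw [eq_inv_mul_iff_mul_eq, ← mul_assoc, hr]
    have h' : g * rep 2 = (rep 2)⁻¹ * g := mul_inv_eq_iff_eq_mul.mp h
    have h2 : (r⁻¹ * g) * rep 2 = rep 2 * (r⁻¹ * g) := by
      have e : r⁻¹ * (rep 2)⁻¹ = rep 2 * r⁻¹ := by
        rw [inv_mul_eq_iff_eq_mul, ← mul_assoc, hri, mul_assoc, mul_inv_cancel, mul_one]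
      rw [mul_assoc, h', ← mul_assoc, e, mul_assoc]
    have h1 := psi_commute _ h2
    have hr1 : psi r = 1 :=
      (congrArg Prod.fst (psi_wordIso _ inv_word_facts.1)).trans inv_word_facts.2.2
    rw [map_mul, map_inv, hr1, inv_one, one_mul] at h1
    exact h1

end Cfsg.Agent.O73Three
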