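/-
The seven classes of subgroups of order three.
-/
import Cfsg.Agent.O73Three.Forms
import Cfsg.Agent.O73Three.Normalizer

set_option autoImplicit false

namespace Cfsg.Agent.O73Three

open Matrix

theorem exists_conj_rep (g : G7) (h3 : g ^ 3 = 1) (h1 : g ≠ 1) : ∃ k h, g = h * rep k * h⁻¹ := by
  set X := Reflections.mat g - 1 with hX
  haveI : CharP M7 3 := charP_of_injective_algebraMap (algebraMap F3 M7).injective 3
  have hX3 : X ^ 3 = 0 := by
    rw [hX, sub_pow_char_of_commute (p := 3) (h := Commute.one_right _), one_pow, ← mat_pow', h3, mat_one', sub_self]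
  let D : Nil3 :=
    { X := X
      isom := fun u w => by
        have h := bil_mulVec (Reflections.mat g) u w
        rw [mat_preserves g, show Reflections.mat g = X + 1 from (sub_add_cancel _ _).symm, Matrix.add_mulVec,
          Matrix.add_mulVec, Matrix.one_mulVec, Matrix.one_mulVec, bil_add_left, bil_add_right, bil_add_right,
          show u ⬝ᵥ gramB *ᵥ w = bil u w from rfl] at h
        linear_combination h
      cube := fun u => by rw [Matrix.mulVec_mulVec, Matrix.mulVec_mulVec, ← pow_three', hX3, Matrix.zero_mulVec] }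
  have h0 : ∃ u, D.ap u ≠ 0 := by
    by_contra h
    push_neg at h
    refine h1 (Reflections.eq_of_mat ?_)
    rw [mat_one', ← sub_eq_zero]
    exact Matrix.ext_iff_mulVec.mpr fun u => by rw [Matrix.zero_mulVec]; exact h u
  obtain ⟨k, hk⟩ := D.exists_realises h0
  obtain ⟨P, hP, hXP⟩ := Nil3.Realises.matrix D hk
  have hh : (P * frameInvK k)ᵀ * gramB * (P * frameInvK k) = gramB := by
    conv_rhs => rw [← (frame_facts k).2.2.1, ← hP]
    simp only [Matrix.transpose_mul, Matrix.mul_assoc]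
  refine ⟨k, ofMat _ hh, eq_mul_inv_iff_mul_eq.mpr (Reflections.eq_of_mat ?_)⟩
  rw [mat_mul', mat_mul', mat_ofMat, mat_rep, show Reflections.mat g = X + 1 from (sub_add_cancel _ _).symm, ofK,
    ← Matrix.mul_assoc (X + 1), Matrix.mul_assoc P, ← Matrix.mul_assoc (frameInvK k), ← Matrix.mul_assoc (frameInvK k),
    (frame_facts k).1, Matrix.one_mul, ← Matrix.mul_assoc, Matrix.add_mul, Matrix.one_mul, show X * P = _ from hXP,
    Matrix.mul_add, Matrix.mul_one, add_comm (P * nilK k) P]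

theorem out_facts : bil outVec outVec ≠ 0 ∧ 2 * bil outVec outVec = 1 := by decide +kernel

/-- An isometry of spinor sign `-1`. -/
noncomputable def outIso : G7 := Reflections.refl Q7 outVec

theorem psi_outIso : psi outIso = -1 := (psi_refl out_facts.1).1.trans (if_pos out_facts.2)

theorem cent_facts : ∀ k : Fin 6, k ≠ 2 → (∀ v ∈ centWord k, bil v v ≠ 0) ∧
    wordM (centWord k) * ofK k (1 + nilK k) = ofK k (1 + nilK k) * wordM (centWord k) ∧
    (wordSign (centWord k)).1 = -1 := by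
  decide +kernel

theorem exists_cent (k : Fin 6) (hk : k ≠ 2) : ∃ c : G7, c * rep k = rep k * c ∧ psi c = -1 := by
  obtain ⟨h1, h2, h3⟩ := cent_facts k hk
  refine ⟨wordIso (centWord k), Reflections.eq_of_mat ?_, (congrArg Prod.fst (psi_wordIso _ h1)).trans h3⟩
  rw [mat_mul', mat_mul', mat_wordIso h1, mat_rep]
  exact h2

/-- The normal form of a representative. -/
def base : Fin 7 → Fin 6 := ![0, 1, 2, 3, 4, 5, 2]

/-- The conjugating element of a representative. -/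
noncomputable def shift (i : Fin 7) : G7 := if i = 6 then outIso else 1

/-- The seven representatives. -/
noncomputable def rep7 (i : Fin 7) : G7 := shift i * rep (base i) * (shift i)⁻¹

theorem psi_shift (i : Fin 7) : psi (shift i) = if i = 6 then -1 else 1 := by
  rw [shift]
  split
  · exact psi_outIso
  · exact map_one _

theorem mem_omega_of_cube {g : G7} (h : g ^ 3 = 1) : g ∈ Cfsg.Omega F3 ⇑Q7 :=
  (mem_omega_iff g).mpr ⟨sign_of_pow_three (n := 1) (by rwa [pow_one]), sign_of_pow_three (n := 1) (by rwa [pow_one])⟩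

theorem rep_ne_one (k : Fin 6) : rep k ≠ 1 := by
  intro h
  have e := congrArg (fun g => toK k (Reflections.mat g)) h
  simp only [mat_rep, toK_ofK, mat_one', toK_one] at e
  have : ∀ k : Fin 6, (1 + nilK k : M7) ≠ 1 := by decide +kernel
  exact this k e

theorem rep7_cube (i : Fin 7) : rep7 i ^ 3 = 1 := by
  rw [rep7, conj_pow, rep_cube, mul_one, mul_inv_cancel]

theorem rep7_ne_one (i : Fin 7) : rep7 i ≠ 1 := by
  rw [rep7, Ne, conj_eq_one_iff]
  exact rep_ne_one _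

theorem units_cases (u : ℤˣ) : u = 1 ∨ u = -1 := Int.units_eq_one_or u

/-- Every element of order three is conjugate in `Ω` to a representative. -/
theorem exists_conj_rep7 (g : G7) (h3 : g ^ 3 = 1) (h1 : g ≠ 1) :
    ∃ i, ∃ h ∈ Cfsg.Omega F3 ⇑Q7, g = h * rep7 i * h⁻¹ := by
  obtain ⟨k, h, hg⟩ := exists_conj_rep g h3 h1
  have fin : ∀ (i : Fin 7) (h : G7), g = h * rep7 i * h⁻¹ → psi h = 1 →
      ∃ i, ∃ h ∈ Cfsg.Omega F3 ⇑Q7, g = h * rep7 i * h⁻¹ := by
    intro i h hg hp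
    rcases units_cases (psi' h) with hq | hq
    · exact ⟨i, h, (mem_omega_iff h).mpr ⟨hp, hq⟩, hg⟩
    · refine ⟨i, negIso * h, (mem_omega_iff _).mpr ⟨?_, ?_⟩, ?_⟩
      · rw [map_mul, psi_negIso.1, hp, one_mul]
      · rw [map_mul, psi_negIso.2, hq, neg_mul_neg, one_mul]
      · have e : negIso * g * negIso⁻¹ = g := by rw [negIso_comm, mul_inv_cancel_right]
        conv_lhs => rw [← e, hg]
        group
  have hsplit : ∀ i : Fin 7, shift i = 1 → base i = k → g = h * rep7 i * h⁻¹ := by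
    intro i hs hb
    rw [rep7, hs, hb, hg]
    simp
  have hbase : ∀ k : Fin 6, ∃ i : Fin 7, i ≠ 6 ∧ base i = k := by decide
  obtain ⟨i, hi, hb⟩ := hbase k
  have hs : shift i = 1 := if_neg hi
  rcases units_cases (psi h) with hp | hp
  · exact fin i h (hsplit i hs hb) hp
  by_cases hk : k = 2
  · subst hk
    refine fin 6 (h * outIso⁻¹) ?_ ?_
    · rw [rep7, show shift 6 = outIso from if_pos rfl, show base 6 = 2 from rfl, hg]
      group
    · rw [map_mul, map_inv, hp, psi_outIso]; rfl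
  · obtain ⟨c, hc, hcp⟩ := exists_cent k hk
    refine fin i (h * c) ?_ ?_
    · rw [rep7, hs, hb, hg]
      simp only [one_mul, inv_one, mul_one, _root_.mul_inv_rev]
      rw [mul_assoc h c, hc]
      group
    · rw [map_mul, hp, hcp]; rfl

/-! ### Invariants -/

/-- The form `B(v, N² v)` in coordinates. -/
def betaK (k : Fin 6) (v : V7) : F3 := v ⬝ᵥ (gramK k * nilK k * nilK k) *ᵥ v

/-- The value `c` is taken. -/
def Takes (k : Fin 6) (c : F3) : Prop := ∃ v, betaK k v = c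

/-- A value zero outside the kernel of the square. -/
def Isotropic (k : Fin 6) : Prop := ∃ v, betaK k v = 0 ∧ (nilK k * nilK k) *ᵥ v ≠ 0

/-- The linking form vanishes on the kernel of the square. -/
def Unlinked (k : Fin 6) : Prop := ∀ u w, (nilK k * nilK k) *ᵥ u = 0 → (nilK k * nilK k) *ᵥ w = 0 →
  (nilK k *ᵥ u) ⬝ᵥ gramK k *ᵥ w = 0

theorem inv_rep (k : Fin 6) : toK k (Reflections.mat (rep k)⁻¹) = 1 + (- nilK k + nilK k * nilK k) := by
  rw [show (rep k)⁻¹ = rep k * rep k from (inv_eq_of_mul_eq_one_right (by rw [← pow_three, rep_cube])),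
    mat_mul', ← toK_mul, mat_rep, toK_ofK]
  simp only [Matrix.add_mul, Matrix.mul_add, Matrix.one_mul, Matrix.mul_one]
  have h3 : (3 : F3) • nilK k = 0 := by rw [three_eq, zero_smul]
  rw [show (3 : F3) = 1 + 1 + 1 from rfl, add_smul, add_smul, one_smul] at h3
  have h4 : nilK k + nilK k = - nilK k := eq_neg_of_add_eq_zero_left h3
  calc 1 + nilK k + (nilK k + nilK k * nilK k) = 1 + ((nilK k + nilK k) + nilK k * nilK k) := by abel
    _ = _ := by rw [h4]

theorem nil_cube : ∀ k : Fin 6, nilK k * nilK k * nilK k = 0 := by decide +kernel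

/-- Conjugate up to inversion. -/
def Rel (i j : Fin 6) : Prop := ∃ h : G7, h * rep i * h⁻¹ = rep j ∨ h * rep i * h⁻¹ = (rep j)⁻¹

theorem Rel.symm {i j : Fin 6} (h : Rel i j) : Rel j i := by
  obtain ⟨h, e | e⟩ := h
  · exact ⟨h⁻¹, Or.inl (by rw [← e]; group)⟩
  · refine ⟨h⁻¹, Or.inr ?_⟩
    rw [← inv_inv (rep j), ← e]
    group

theorem Rel.data {i j : Fin 6} (h : Rel i j) : ∃ A : M7, Aᵀ * gramK j * A = gramK i ∧
    (∃ s, s * A = 1) ∧ A * (nilK i * nilK i) = (nilK j * nilK j) * A ∧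
    ∀ v, (nilK i * nilK i) *ᵥ v = 0 → ∃ c : F3, c ≠ 0 ∧ nilK j *ᵥ (A *ᵥ v) = c • (A *ᵥ (nilK i *ᵥ v)) := by
  obtain ⟨h, hh⟩ := h
  set A := frameInvK j * Reflections.mat h * frameK i with hA
  have hG : Aᵀ * gramK j * A = gramK i := by
    conv_rhs => rw [← (frame_facts i).2.2.2.1, ← mat_preserves h]
    conv_rhs => rw [← (frame_facts j).2.2.1]
    simp only [hA, Matrix.transpose_mul, Matrix.mul_assoc]
  have hinv : ∃ s, s * A = 1 := by
    refine ⟨frameInvK i * Reflections.mat h⁻¹ * frameK j, ?_⟩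
    rw [hA, Matrix.mul_assoc, Matrix.mul_assoc, ← Matrix.mul_assoc (frameK j), ← Matrix.mul_assoc (frameK j),
      (frame_facts j).2.1, Matrix.one_mul, ← Matrix.mul_assoc (Reflections.mat h⁻¹), ← mat_mul', inv_mul_cancel,
      mat_one', Matrix.one_mul, (frame_facts i).1]
  have key : ∀ z : G7, h * rep i * h⁻¹ = z → A * (1 + nilK i) = toK j (Reflections.mat z) * A := by
    intro z hz
    have e := congrArg Reflections.mat (mul_inv_eq_iff_eq_mul.mp hz)
    rw [mat_mul', mat_mul', mat_rep, ofK] at e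
    have e2 := congrArg (fun M => frameInvK j * M * frameK i) e
    simp only [Matrix.mul_assoc, (frame_facts i).1, Matrix.mul_one] at e2
    rw [hA, toK]
    simp only [Matrix.mul_assoc]
    rw [e2, ← Matrix.mul_assoc (frameK j), (frame_facts j).2.1, Matrix.one_mul]
  refine ⟨A, hG, hinv, ?_⟩
  rcases hh with e | e
  · have e' := key _ e
    rw [mat_rep, toK_ofK, Matrix.mul_add, Matrix.add_mul, Matrix.mul_one, Matrix.one_mul, add_right_inj] at e'
    refine ⟨by rw [← Matrix.mul_assoc, e', Matrix.mul_assoc, e', Matrix.mul_assoc], fun v _ =>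
      ⟨1, one_ne_zero, by rw [one_smul, Matrix.mulVec_mulVec, Matrix.mulVec_mulVec, e']⟩⟩
  · have e' := key _ e
    rw [inv_rep, Matrix.mul_add, Matrix.add_mul, Matrix.mul_one, Matrix.one_mul, add_right_inj] at e'
    set N' := - nilK j + nilK j * nilK j with hN'
    have hsq : N' * N' = nilK j * nilK j := by
      rw [hN']
      simp only [Matrix.add_mul, Matrix.mul_add, Matrix.neg_mul, Matrix.mul_neg, neg_neg, ← Matrix.mul_assoc,
        nil_cube, Matrix.zero_mul, neg_zero, add_zero]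
    have h2 : A * (nilK i * nilK i) = (nilK j * nilK j) * A := by
      rw [← Matrix.mul_assoc, e', Matrix.mul_assoc, e', ← Matrix.mul_assoc, hsq]
    refine ⟨h2, fun v hv => ⟨-1, neg_ne_zero.mpr one_ne_zero, ?_⟩⟩
    have e3 : (nilK j * nilK j) *ᵥ (A *ᵥ v) = 0 := by
      rw [Matrix.mulVec_mulVec, ← h2, ← Matrix.mulVec_mulVec, hv, Matrix.mulVec_zero]
    have e4 : A *ᵥ (nilK i *ᵥ v) = N' *ᵥ (A *ᵥ v) := by rw [Matrix.mulVec_mulVec, e', ← Matrix.mulVec_mulVec]
    rw [e4, hN', Matrix.add_mulVec, e3, add_zero, Matrix.neg_mulVec, neg_smul, one_smul, neg_neg]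

theorem transport {i j : Fin 6} (h : Rel i j) : (∀ c, Takes i c → Takes j c) ∧ (Isotropic i → Isotropic j) ∧
    (Unlinked j → Unlinked i) := by
  obtain ⟨A, hG, ⟨s, hs⟩, h2, h1⟩ := h.data
  have hb : ∀ v, betaK j (A *ᵥ v) = betaK i v := by
    intro v
    rw [betaK, betaK, Matrix.mul_assoc, Matrix.mul_assoc, ← hG, Matrix.mul_assoc _ A, h2,
      Matrix.mul_assoc Aᵀ (gramK j), ← Matrix.mul_assoc (gramK j) _ A]
    rw [← Matrix.mulVec_mulVec v Aᵀ, ← Matrix.mulVec_mulVec v (gramK j * (nilK j * nilK j)),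
      Matrix.dotProduct_mulVec v Aᵀ, Matrix.vecMul_transpose]
  refine ⟨fun c ⟨v, hv⟩ => ⟨A *ᵥ v, (hb v).trans hv⟩, fun ⟨v, hv, hv2⟩ => ⟨A *ᵥ v, (hb v).trans hv, fun h0 => hv2 ?_⟩, ?_⟩
  · rw [Matrix.mulVec_mulVec, ← h2, ← Matrix.mulVec_mulVec] at h0
    have := congrArg (s *ᵥ ·) h0
    simpa [Matrix.mulVec_mulVec, hs, ← Matrix.mul_assoc] using this
  · intro hU u w hu hw
    obtain ⟨c, hc, hcu⟩ := h1 u hu
    have e := hU (A *ᵥ u) (A *ᵥ w) (by rw [Matrix.mulVec_mulVec, ← h2, ← Matrix.mulVec_mulVec, hu, Matrix.mulVec_zero])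
      (by rw [Matrix.mulVec_mulVec, ← h2, ← Matrix.mulVec_mulVec, hw, Matrix.mulVec_zero])
    rw [hcu, smul_dotProduct, smul_eq_mul] at e
    have e' := (mul_eq_zero.mp e).resolve_left hc
    rw [← hG, ← Matrix.mulVec_mulVec, ← Matrix.mulVec_mulVec, Matrix.dotProduct_mulVec _ Aᵀ, Matrix.vecMul_transpose]
    exact e'

theorem betaK_eq (v : V7) : betaK 0 v = v 0 * v 0 + v 3 * v 3 ∧ betaK 1 v = v 0 * v 0 + 2 * (v 3 * v 3) ∧
    betaK 2 v = v 0 * v 0 ∧ betaK 3 v = v 0 * v 0 ∧ betaK 4 v = 2 * (v 0 * v 0) ∧ betaK 5 v = 0 := by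
  refine ⟨?_, ?_, ?_, ?_, ?_, ?_⟩ <;>
    simp [betaK, gramK, nilK, Matrix.mul_apply, Matrix.mulVec, dotProduct, Fin.sum_univ_seven] <;> ring

theorem signature : (Takes 0 1 ∧ Takes 0 2 ∧ ¬ Isotropic 0) ∧ (Takes 1 1 ∧ Takes 1 2 ∧ Isotropic 1) ∧
    (Takes 2 1 ∧ ¬ Takes 2 2 ∧ ¬ Unlinked 2) ∧ (Takes 3 1 ∧ ¬ Takes 3 2 ∧ Unlinked 3) ∧
    (¬ Takes 4 1 ∧ Takes 4 2) ∧ (¬ Takes 5 1 ∧ ¬ Takes 5 2) := by
  have sq : ∀ a : F3, a * a ≠ 2 ∧ 2 * (a * a) ≠ 1 := by decide
  have two : ∀ a b : F3, a * a + b * b = 0 → a = 0 ∧ b = 0 := by decide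
  refine ⟨⟨⟨![1, 0, 0, 0, 0, 0, 0], by decide +kernel⟩, ⟨![1, 0, 0, 1, 0, 0, 0], by decide +kernel⟩, ?_⟩,
    ⟨⟨![1, 0, 0, 0, 0, 0, 0], by decide +kernel⟩, ⟨![0, 0, 0, 1, 0, 0, 0], by decide +kernel⟩,
      ⟨![1, 0, 0, 1, 0, 0, 0], by decide +kernel, by decide +kernel⟩⟩,
    ⟨⟨![1, 0, 0, 0, 0, 0, 0], by decide +kernel⟩, ?_, fun h => ?_⟩,
    ⟨⟨![1, 0, 0, 0, 0, 0, 0], by decide +kernel⟩, ?_, ?_⟩,
    ⟨?_, ⟨![1, 0, 0, 0, 0, 0, 0], by decide +kernel⟩⟩, ?_, ?_⟩
  · rintro ⟨v, hv, hv2⟩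
    rw [(betaK_eq v).1] at hv
    obtain ⟨h0, h3⟩ := two _ _ hv
    refine hv2 (funext fun i => ?_)
    fin_cases i <;> simp [nilK, Matrix.mul_apply, Matrix.mulVec, dotProduct, Fin.sum_univ_seven, h0, h3]
  · rintro ⟨v, hv⟩
    exact (sq _).1 ((betaK_eq v).2.2.1.symm.trans hv)
  · exact absurd (h ![0, 0, 0, 1, 0, 0, 0] ![0, 0, 0, 0, 1, 0, 0] (by decide +kernel) (by decide +kernel))
      (by decide +kernel)
  · rintro ⟨v, hv⟩
    exact (sq _).1 ((betaK_eq v).2.2.2.1.symm.trans hv)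
  · intro u w hu hw
    have hu0 := congrFun hu 2
    have hw0 := congrFun hw 2
    simp [nilK, Matrix.mul_apply, Matrix.mulVec, dotProduct, Fin.sum_univ_seven] at hu0 hw0
    simp [gramK, nilK, Matrix.mul_apply, Matrix.mulVec, dotProduct, Fin.sum_univ_seven, hu0, hw0]
  · rintro ⟨v, hv⟩
    exact (sq _).2 ((betaK_eq v).2.2.2.2.1.symm.trans hv)
  · rintro ⟨v, hv⟩
    exact zero_ne_one ((betaK_eq v).2.2.2.2.2.symm.trans hv)
  · rintro ⟨v, hv⟩
    exact two_ne ((betaK_eq v).2.2.2.2.2.symm.trans hv).symm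

theorem takes_one : ∀ k : Fin 6, Takes k 1 ↔ k.val < 4 := by
  obtain ⟨⟨s01, -, -⟩, ⟨s11, -, -⟩, ⟨s21, -, -⟩, ⟨s31, -, -⟩, ⟨s41, -⟩, s51, -⟩ := signature
  intro k
  fin_cases k
  exacts [iff_of_true s01 (by decide), iff_of_true s11 (by decide), iff_of_true s21 (by decide),
    iff_of_true s31 (by decide), iff_of_false s41 (by decide), iff_of_false s51 (by decide)]

theorem takes_two : ∀ k : Fin 6, Takes k 2 ↔ k = 0 ∨ k = 1 ∨ k = 4 := by
  obtain ⟨⟨-, s02, -⟩, ⟨-, s12, -⟩, ⟨-, s22, -⟩, ⟨-, s32, -⟩, ⟨-, s42⟩, -, s52⟩ := signature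
  intro k
  fin_cases k
  exacts [iff_of_true s02 (by decide), iff_of_true s12 (by decide), iff_of_false s22 (by decide),
    iff_of_false s32 (by decide), iff_of_true s42 (by decide), iff_of_false s52 (by decide)]

theorem rel_eq {i j : Fin 6} (h : Rel i j) : i = j := by
  have a := transport h
  have b := transport h.symm
  have h1 : i.val < 4 ↔ j.val < 4 :=
    (takes_one i).symm.trans (Iff.trans ⟨a.1 1, b.1 1⟩ (takes_one j))
  have h2 : (i = 0 ∨ i = 1 ∨ i = 4) ↔ (j = 0 ∨ j = 1 ∨ j = 4) :=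
    (takes_two i).symm.trans (Iff.trans ⟨a.1 2, b.1 2⟩ (takes_two j))
  have hcase : ∀ i j : Fin 6, (i.val < 4 ↔ j.val < 4) → ((i = 0 ∨ i = 1 ∨ i = 4) ↔ (j = 0 ∨ j = 1 ∨ j = 4)) →
      i = j ∨ (i = 0 ∧ j = 1) ∨ (i = 1 ∧ j = 0) ∨ (i = 2 ∧ j = 3) ∨ (i = 3 ∧ j = 2) := by decide
  obtain ⟨⟨-, -, s03⟩, ⟨-, -, s13⟩, ⟨-, -, s23⟩, ⟨-, -, s33⟩, -⟩ := signature
  rcases hcase i j h1 h2 with h | ⟨rfl, rfl⟩ | ⟨rfl, rfl⟩ | ⟨rfl, rfl⟩ | ⟨rfl, rfl⟩
  · exact h
  · exact absurd (b.2.1 s13) s03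
  · exact absurd (a.2.1 s13) s03
  · exact absurd (a.2.2 s33) s23
  · exact absurd (b.2.2 s33) s23

/-- The representatives are not conjugate in `Ω`, even up to inversion. -/
theorem rep7_inj (i j : Fin 7) (h : G7) (hh : h ∈ Cfsg.Omega F3 ⇑Q7)
    (e : h * rep7 i * h⁻¹ = rep7 j ∨ h * rep7 i * h⁻¹ = (rep7 j)⁻¹) : i = j := by
  set k := (shift j)⁻¹ * h * shift i with hk
  have e' : k * rep (base i) * k⁻¹ = rep (base j) ∨ k * rep (base i) * k⁻¹ = (rep (base j))⁻¹ := by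
    rw [hk]
    rcases e with e | e
    · left
      rw [rep7, rep7] at e
      have := congrArg (fun x => (shift j)⁻¹ * x * shift j) e
      simp only [mul_assoc] at this ⊢
      simpa [mul_assoc] using this
    · right
      rw [rep7, rep7] at e
      have := congrArg (fun x => (shift j)⁻¹ * x * shift j) e
      simp only [mul_assoc] at this ⊢
      simpa [mul_assoc] using this
  have hb := rel_eq ⟨k, e'⟩
  by_cases hij : i = j
  · exact hij
  exfalso
  have hcase : ∀ i j : Fin 7, base i = base j → i ≠ j → base i = 2 ∧ (i = 6 ↔ j ≠ 6) := by decide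
  obtain ⟨h2, h6⟩ := hcase i j hb hij
  rw [← hb, h2] at e'
  have hp := psi_normalize k e'
  rw [hk, map_mul, map_mul, map_inv, ((mem_omega_iff h).mp hh).1, mul_one, psi_shift, psi_shift] at hp
  by_cases hi : i = 6
  · rw [if_pos hi, if_neg (h6.mp hi)] at hp
    exact absurd hp (by decide)
  · have hj : j = 6 := by
      by_contra hj
      exact hi (h6.mpr hj)
    rw [if_pos hj, if_neg hi] at hp
    exact absurd hp (by decide)

end Cfsg.Agent.O73Three
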